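import Cfsg.Agent.EPPOSeven.Pairs
import Cfsg.Agent.Small.ThompsonTransfer

/-!
# A self-centralising four group from a pair of Sylow two-subgroups
-/

set_option autoImplicit false
set_option linter.style.haveILetI false
set_option linter.unusedSectionVars false

namespace CfsgLib.EPPOSeven

open Subgroup

variable {G : Type*} [Group G]

theorem sq_one_of_orderOf_two {a : G} (ha : orderOf a = 2) : a * a = 1 := by
  rw [← pow_two, ← ha, pow_orderOf_eq_one]

theorem orderOf_two_of_sq_one {a : G} (h : a * a = 1) (h1 : a ≠ 1) : orderOf a = 2 := by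
  haveI : Fact (Nat.Prime 2) := ⟨Nat.prime_two⟩
  exact orderOf_eq_prime (by rw [pow_two, h]) h1

variable [Finite G]

/-- A nonabelian simple group has no subgroup of index two. -/
theorem no_index_two [IsSimpleGroup G] (hna : ¬ IsMulCommutative G) (H : Subgroup G) :
    H.index ≠ 2 := by
  intro hH
  rcases (Subgroup.normal_of_index_eq_two hH).eq_bot_or_eq_top with rfl | rfl
  · rw [Subgroup.index_bot] at hH
    haveI : Fact (Nat.Prime 2) := ⟨Nat.prime_two⟩
    haveI := isCyclic_of_prime_card hH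
    exact hna IsCyclic.isMulCommutative
  · rw [Subgroup.index_top] at hH; omega

/-- A subgroup lying in two cosets of a subgroup `E`. -/
theorem card_le_two_mul {A E : Subgroup G} (a : G)
    (h : ∀ z ∈ A, z ∈ E ∨ a * z ∈ E) : Nat.card A ≤ 2 * Nat.card E := by
  classical
  let f : A → E ⊕ E := fun z =>
    if hz : (z : G) ∈ E then Sum.inl ⟨z, hz⟩ else Sum.inr ⟨a * z, (h z z.2).resolve_left hz⟩
  have hf : Function.Injective f := by
    intro z w hzw
    simp only [f] at hzw
    split_ifs at hzw with h1 h2 h3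
    · exact Subtype.ext (congrArg (fun u : E => (u : G)) (Sum.inl.inj hzw) :)
    · exact Subtype.ext (mul_left_cancel (congrArg Subtype.val (Sum.inr.inj hzw) : a * (z : G) = a * w))
  have := Nat.card_le_card_of_injective f hf
  rwa [Nat.card_sum, ← two_mul] at this

/-- The centre-involution part of a subgroup. -/
def omegaCentral (D : Subgroup G) : Subgroup G where
  carrier := {v | v ∈ D ∧ (∀ d ∈ D, d * v = v * d) ∧ v * v = 1}
  one_mem' := ⟨one_mem _, fun d _ => by simp, one_mul 1⟩
  mul_mem' := fun {u v} hu hv => ⟨mul_mem hu.1 hv.1, fun d hd => by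
      rw [← mul_assoc, hu.2.1 d hd, mul_assoc, hv.2.1 d hd, mul_assoc],
    by rw [show u * v * (u * v) = u * (v * u) * v by group, ← hv.2.1 u hu.1,
      show u * (u * v) * v = u * u * (v * v) by group, hu.2.2, hv.2.2, one_mul]⟩
  inv_mem' := fun {v} hv => by
    have : v⁻¹ = v := inv_eq_of_mul_eq_one_right hv.2.2
    rw [this]; exact hv

theorem normalizer_le_normalizer_omegaCentral (D : Subgroup G) :
    normalizer (D : Set G) ≤ normalizer (omegaCentral D : Set G) := by
  have key : ∀ g ∈ normalizer (D : Set G), ∀ v ∈ omegaCentral D, g * v * g⁻¹ ∈ omegaCentral D := by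
    intro g hg v hv
    refine ⟨(mem_normalizer_iff.1 hg v).1 hv.1, fun d hd => ?_, ?_⟩
    · have := hv.2.1 _ ((mem_normalizer_iff''.1 hg d).1 hd)
      calc d * (g * v * g⁻¹) = g * (g⁻¹ * d * g * v) * g⁻¹ := by group
        _ = g * (v * (g⁻¹ * d * g)) * g⁻¹ := by rw [this]
        _ = g * v * g⁻¹ * d := by group
    · rw [show g * v * g⁻¹ * (g * v * g⁻¹) = g * (v * v) * g⁻¹ by group, hv.2.2, mul_one,
        mul_inv_cancel]
  intro g hg
  refine mem_normalizer_iff.2 fun v => ⟨key g hg v, fun hv => ?_⟩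
  simpa [mul_assoc] using key g⁻¹ (inv_mem hg) _ hv

/-- The facts about an involution `a` of a two-group `T ≤ N` outside `D` of index two used below. -/
structure OuterInvolution (D N : Subgroup G) (V : Subgroup G) (a : G) : Prop where
  card_V : Nat.card V = 4
  omega : ∀ d ∈ D, d * d = 1 → d ∈ V
  conj_mem : ∀ g ∈ N, ∀ d ∈ D, g * d * g⁻¹ ∈ D
  exists_y : ∃ y ∈ N, orderOf y = 3 ∧ a * y * a⁻¹ = y⁻¹ ∧
    (∀ d ∈ D, Commute y d → d = 1)

namespace OuterInvolution

variable {D N V : Subgroup G} {a : G} (O : OuterInvolution D N V a)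
include O

theorem eq_one_of_commute_conj {y : G} (hy3 : orderOf y = 3) (hay : a * y * a⁻¹ = y⁻¹)
    (hfpf : ∀ d ∈ D, Commute y d → d = 1) {d e : G} (hd : d ∈ D) (hda : Commute a d)
    (hea : Commute a e) (he : y * e * y⁻¹ = d) : d = 1 := by
  refine hfpf d hd ?_
  have h3 : y * y * y = 1 := by
    rw [show y * y * y = y ^ 3 from (pow_three' y).symm, ← hy3, pow_orderOf_eq_one]
  -- `d` commutes with `y a y⁻¹`
  have h1 : Commute (y * a * y⁻¹) d := by
    show y * a * y⁻¹ * d = d * (y * a * y⁻¹)
    rw [← he]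
    calc y * a * y⁻¹ * (y * e * y⁻¹) = y * (a * e) * y⁻¹ := by group
      _ = y * (e * a) * y⁻¹ := by rw [hea.eq]
      _ = y * e * y⁻¹ * (y * a * y⁻¹) := by group
  have h2 : a * (y * a⁻¹ * y⁻¹) = y := by
    calc a * (y * a⁻¹ * y⁻¹) = (a * y * a⁻¹) * y⁻¹ := by group
      _ = y⁻¹ * y⁻¹ * (y * y * y) := by rw [hay, h3, mul_one]
      _ = y := by group
  have h4 : Commute (y * a⁻¹ * y⁻¹) d := by
    rw [show y * a⁻¹ * y⁻¹ = (y * a * y⁻¹)⁻¹ by group]
    exact h1.inv_left
  rw [← h2]
  exact hda.mul_left h4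

/-- The fixed points of `a` have order at most the square root of that of `D`. -/
theorem sq_card_le : Nat.card ↥(D ⊓ centralizer ({a} : Set G)) *
    Nat.card ↥(D ⊓ centralizer ({a} : Set G)) ≤ Nat.card D := by
  obtain ⟨y, hyN, hy3, hay, hfpf⟩ := O.exists_y
  set C := D ⊓ centralizer ({a} : Set G) with hC
  let f : C × C → D := fun p => ⟨p.1 * (y * p.2 * y⁻¹),
    mul_mem p.1.2.1 (O.conj_mem y hyN _ p.2.2.1)⟩
  have hf : Function.Injective f := by
    rintro ⟨c, e⟩ ⟨c', e'⟩ h
    have h1 : (c : G) * (y * e * y⁻¹) = c' * (y * e' * y⁻¹) := congrArg Subtype.val h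
    have hd : (c' : G)⁻¹ * c = y * (e' * (e : G)⁻¹) * y⁻¹ := by
      calc (c' : G)⁻¹ * c = (c' : G)⁻¹ * ((c : G) * (y * e * y⁻¹)) * (y * (e : G)⁻¹ * y⁻¹) := by group
        _ = (c' : G)⁻¹ * ((c' : G) * (y * e' * y⁻¹)) * (y * (e : G)⁻¹ * y⁻¹) := by rw [h1]
        _ = y * (e' * (e : G)⁻¹) * y⁻¹ := by group
    have hcent : ∀ u : C, Commute a (u : G) := fun u =>
      Commute.symm (mem_centralizer_singleton_iff.1 u.2.2)
    have h0 := O.eq_one_of_commute_conj hy3 hay hfpf (mul_mem (inv_mem c'.2.1) c.2.1)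
      ((hcent c').inv_right.mul_right (hcent c))
      ((hcent e').mul_right (hcent e).inv_right) hd.symm
    have e1 : c = c' := Subtype.ext (inv_mul_eq_one.1 h0).symm
    subst e1
    have e2 : (e : G) = e' := mul_left_cancel (mul_right_cancel (mul_left_cancel h1))
    rw [Subtype.ext e2]
  have := Nat.card_le_card_of_injective f hf
  rwa [Nat.card_prod] at this

end OuterInvolution

/-- Two commuting involutions fixed by `a` and their images under `y` commute. -/
theorem commute_of_norm {c e y : G} (hc : c * c = 1) (he : e * e = 1) (hce : Commute c e)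
    (h2 : ∀ d : G, d = c ∨ d = e ∨ d = c * e →
      d * (y * y * d * (y * y)⁻¹) * (y * d * y⁻¹) = 1) :
    Commute e (y * c * y⁻¹) := by
  set c' := y * c * y⁻¹ with hc'
  set e' := y * e * y⁻¹ with he'
  set c'' := y * y * c * (y * y)⁻¹ with hc''
  set e'' := y * y * e * (y * y)⁻¹ with he''
  have ic : c⁻¹ = c := inv_eq_of_mul_eq_one_right hc
  have ie : e⁻¹ = e := inv_eq_of_mul_eq_one_right he
  have hc1 : c' * c' = 1 := by
    rw [hc', show y * c * y⁻¹ * (y * c * y⁻¹) = y * (c * c) * y⁻¹ by group, hc]; group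
  have he1 : e' * e' = 1 := by
    rw [he', show y * e * y⁻¹ * (y * e * y⁻¹) = y * (e * e) * y⁻¹ by group, he]; group
  have icp : c'⁻¹ = c' := inv_eq_of_mul_eq_one_right hc1
  have iep : e'⁻¹ = e' := inv_eq_of_mul_eq_one_right he1
  have hcc : c'' = c * c' := by
    have := eq_inv_of_mul_eq_one_right (show c * (c'' * c') = 1 by rw [← mul_assoc]; exact h2 c (Or.inl rfl))
    rw [ic] at this
    calc c'' = c'' * c' * c'⁻¹ := by group
      _ = c * c' := by rw [this, icp]
  have hee : e'' = e * e' := by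
    have := eq_inv_of_mul_eq_one_right (show e * (e'' * e') = 1 by rw [← mul_assoc]; exact h2 e (Or.inr (Or.inl rfl)))
    rw [ie] at this
    calc e'' = e'' * e' * e'⁻¹ := by group
      _ = e * e' := by rw [this, iep]
  have hprod : c * e * (y * y * (c * e) * (y * y)⁻¹) * (y * (c * e) * y⁻¹) = 1 :=
    h2 (c * e) (Or.inr (Or.inr rfl))
  have hA : y * y * (c * e) * (y * y)⁻¹ = c * c' * (e * e') := by
    rw [← hcc, ← hee, hc'', he'']; group
  have hB : y * (c * e) * y⁻¹ = c' * e' := by rw [hc', he']; group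
  rw [hA, hB] at hprod
  have hcep : e' * c' = c' * e' := by
    rw [hc', he', show y * e * y⁻¹ * (y * c * y⁻¹) = y * (e * c) * y⁻¹ by group, ← hce.eq]; group
  have h3 : e * c' * e * c' = 1 := by
    calc e * c' * e * c' = e * c' * e * (c' * (e' * e')) := by rw [he1, mul_one]
      _ = e * c' * e * ((c' * e') * e') := by simp only [mul_assoc]
      _ = e * c' * e * ((e' * c') * e') := by rw [hcep]
      _ = (c * (e * c)) * c' * (e * e') * (c' * e') := by
          rw [show c * (e * c) = e by rw [← hce.eq, ← mul_assoc, hc, one_mul]]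
          simp only [mul_assoc]
      _ = c * e * (c * c' * (e * e')) * (c' * e') := by simp only [mul_assoc]
      _ = 1 := hprod
  show e * c' = c' * e
  calc e * c' = (e * c')⁻¹⁻¹ := (inv_inv _).symm
    _ = (e * c')⁻¹ := congrArg (·⁻¹)
        (inv_eq_of_mul_eq_one_right (show e * c' * (e * c') = 1 by rw [← h3]; simp only [mul_assoc]))
    _ = c' * e := by rw [mul_inv_rev, ie, icp]

variable (hg : Good G) (hls : LocalsSolvable G)
include hg hls

namespace MaxPair

variable (M : MaxPair G)

/-- The largest elementary subgroups of `T` do not all lie in `D`. -/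
theorem exists_maxEA_notLe :
    ∃ A ∈ CfsgLib.PLocal.maxEAIn 2 M.T, ¬ A ≤ M.D := by
  by_contra hcon
  push Not at hcon
  have hJle : JT M.T ≤ M.D := by
    rw [JT, CfsgLib.PLocal.thompsonSubgroupOf_eq]
    exact sSup_le hcon
  have hJeq : JT M.D = JT M.T := CfsgLib.PLocal.thompsonSubgroupOf_eq_of_le M.D_le_T hJle
  have hJ1 : JT M.D ≠ ⊥ := JT_ne_bot M.D_isPGroup M.ne_bot
  have hN : normalizer ((JT M.D : Subgroup G) : Set G) = M.N := M.normalizer_eq hg hls hJ1 (JT_le _)
    (CfsgLib.PLocal.normalizer_le_normalizer_thompsonSubgroupOf 2 M.D)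
  have hTR : M.T = (M.R₁ : Subgroup G) := by
    by_contra hne
    obtain ⟨g, hgR, hgT, hgN⟩ := exists_normalizing_notMem M.R₁.2 inf_le_left hne
    refine hgT ⟨hgR, ?_⟩
    rw [← hN, hJeq]
    exact CfsgLib.PLocal.normalizer_le_normalizer_thompsonSubgroupOf 2 M.T hgN
  obtain ⟨n, hn, hnT⟩ := exists_conj_maximal M.T_isPGroup inf_le_right M.max₁
    M.T'_isPGroup inf_le_right M.max₂
  have hTR' : M.T' = (M.R₂ : Subgroup G) := by
    refine eq_of_le_of_card_ge inf_le_left ?_
    rw [← hnT, card_map_of_injective (MulAut.conj n).injective, hTR]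
    exact (Nat.card_congr (M.R₂.equiv M.R₁).toEquiv).le
  apply M.J_ne
  rw [← hTR, ← hTR', ← hnT, ← JT_conj, ← hJeq]
  exact (mem_normalizer_iff_map_conj_eq.1
    (CfsgLib.PLocal.normalizer_le_normalizer_thompsonSubgroupOf 2 M.D hn)).symm

/-- The configuration around the four group `V` of involutions of the centre of `D`. -/
theorem exists_configuration :
    ∃ V : Subgroup G, V ≤ M.D ∧ (∀ v ∈ V, v * v = 1 ∧ ∀ d ∈ M.D, d * v = v * d) ∧
      M.N ≤ normalizer (V : Set G) ∧ Nat.card V = 4 ∧
      (∀ y ∈ M.N, orderOf y = 3 → ∀ d ∈ M.D, Commute y d → d = 1) ∧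
      (∀ t ∈ M.T, t ∉ M.D → ∀ t' ∈ M.T, t' ∉ M.D → t * t' ∈ M.D) ∧
      (∃ a ∈ M.T, a ∉ M.D ∧ orderOf a = 2) ∧
      ∀ a ∈ M.T, a ∉ M.D → orderOf a = 2 → OuterInvolution M.D M.N V a := by
  haveI : Fact (Nat.Prime 2) := ⟨Nat.prime_two⟩
  obtain ⟨L, hLK⟩ := M.exists_local hg hls
  obtain ⟨A, ⟨hAT, hAea, hAmax⟩, hAD⟩ := M.exists_maxEA_notLe hg hls
  obtain ⟨a, haA, haD⟩ := SetLike.not_le_iff_exists.1 hAD
  have hsqA : ∀ z ∈ A, z * z = 1 := fun z hz => by rw [← pow_two]; exact hAea.2 z hz
  have hcA : ∀ z ∈ A, ∀ w ∈ A, z * w = w * z := fun z hz w hw =>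
    congrArg Subtype.val (hAea.1.is_comm.comm ⟨z, hz⟩ ⟨w, hw⟩)
  have hao : orderOf a = 2 :=
    orderOf_two_of_sq_one (hsqA a haA) fun e => haD (e ▸ one_mem _)
  have haN : a ∈ M.N := (hAT haA).2
  set E := A ⊓ M.D with hE
  have hAE : Nat.card A ≤ 2 * Nat.card E := by
    refine card_le_two_mul a fun z hz => ?_
    by_cases hzD : z ∈ M.D
    · exact Or.inl ⟨hz, hzD⟩
    · refine Or.inr ⟨mul_mem haA hz, ?_⟩
      rw [← hLK] at hzD haD ⊢
      exact L.mul_mem a haN z (hAT hz).2 hao
        (orderOf_two_of_sq_one (hsqA z hz) fun e => hzD (e ▸ one_mem _)) haD hzD (hcA a haA z hz)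
  set V := omegaCentral M.D with hV
  have hVD : V ≤ M.D := fun v hv => hv.1
  have hVN : M.N ≤ normalizer (V : Set G) := normalizer_le_normalizer_omegaCentral M.D
  have hxp : (orderOf L.x).Prime := L.order.symm ▸ L.prime
  have hx2 : orderOf L.x ≠ 2 := L.order.symm ▸ L.ne_two
  obtain ⟨hbK, hbo, hys⟩ := L.order_mul_conj a haN hao (hLK ▸ haD)
  set b := L.x * a * L.x⁻¹ with hb
  set y := a * b with hy
  have hbN : b ∈ M.N := mul_mem (mul_mem L.mem haN) (inv_mem L.mem)
  have hyN : y ∈ M.N := mul_mem haN hbN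
  have hfpf : ∀ z ∈ M.N, (orderOf z).Prime → orderOf z ≠ 2 → ∀ d ∈ M.D, Commute z d → d = 1 :=
    fun z _ hzp hz2 d hd hc => hg.eq_one_of_commute Nat.prime_two hzp hz2 M.D_isPGroup rfl hd hc
  -- fixed points of `a` on `V`
  set W := V ⊓ centralizer ({a} : Set G) with hW
  set W' := V ⊓ centralizer ({b} : Set G) with hW'
  have hWW : ∀ v, v ∈ W → v ∈ W' → v = 1 := fun v hv hv' =>
    hfpf y hyN (hys ▸ L.prime) (hys ▸ L.ne_two) v (hVD hv.1)
      ((Commute.symm (mem_centralizer_singleton_iff.1 hv.2)).mul_left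
        (Commute.symm (mem_centralizer_singleton_iff.1 hv'.2)))
  have hcomm : ∀ z ∈ E ⊔ V, ∀ w ∈ E ⊔ V, z * w = w * z := by
    intro z hz w hw
    rw [sup_eq_closure] at hz hw
    haveI := isMulCommutative_closure (k := (E : Set G) ∪ (V : Set G)) (by
      rintro u (hu | hu) v (hv | hv)
      · exact hcA u hu.1 v hv.1
      · exact hv.2.1 u hu.2
      · exact (hu.2.1 v hv.2).symm
      · exact hv.2.1 u hu.1)
    exact congrArg Subtype.val (IsMulCommutative.is_comm.comm
      (⟨z, hz⟩ : closure ((E : Set G) ∪ (V : Set G))) ⟨w, hw⟩)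
  have hEVD : E ⊔ V ≤ M.D := sup_le inf_le_right hVD
  have hEV : Nat.card ↥(E ⊔ V) ≤ Nat.card A := by
    refine hAmax _ (hEVD.trans M.D_le_T) ⟨⟨⟨fun z w => Subtype.ext (hcomm z z.2 w w.2)⟩⟩, fun z hz => ?_⟩
    rw [sup_eq_closure] at hz
    induction hz using closure_induction with
    | mem u hu =>
      rcases hu with hu | hu
      · exact hAea.2 u hu.1
      · rw [pow_two]; exact hu.2.2
    | one => exact one_pow _
    | mul u v hu hv hu2 hv2 =>
      rw [(show Commute u v from hcomm u (by rwa [sup_eq_closure]) v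
        (by rwa [sup_eq_closure])).mul_pow, hu2, hv2, one_mul]
    | inv u _ hu2 => rw [inv_pow, hu2, inv_one]
  -- two elements of `V` outside `W` have product in `W`
  have hVmul : ∀ v ∈ V, ∀ v' ∈ V, v ∉ W → v' ∉ W → v * v' ∈ W := by
    intro v hv v' hv' hvW hv'W
    have hEW : ∀ u ∈ E, u ∈ V → u ∈ W := fun u hu huV =>
      ⟨huV, mem_centralizer_singleton_iff.2 (hcA u hu.1 a haA)⟩
    refine hEW _ ?_ (mul_mem hv hv')
    by_contra hne
    -- `E`, `E v`, `E (v v')` are three cosets in `E ⊔ V`
    have hcard : Nat.card (E ⊕ E ⊕ E) ≤ Nat.card ↥(E ⊔ V) := by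
      let f : E ⊕ E ⊕ E → ↥(E ⊔ V) := Sum.elim (fun e => ⟨e, mem_sup_left e.2⟩)
        (Sum.elim (fun e => ⟨e * v, mul_mem (mem_sup_left e.2) (mem_sup_right hv)⟩)
          (fun e => ⟨e * (v * v'), mul_mem (mem_sup_left e.2) (mem_sup_right (mul_mem hv hv'))⟩))
      refine Nat.card_le_card_of_injective f ?_
      have n1 : v ∉ E := fun h => hvW (hEW v h hv)
      have n2 : ∀ e e' : E, (e : G) * v ≠ e' * (v * v') := by
        intro e e' h
        have : v' = v⁻¹ * ((e' : G)⁻¹ * e) * v := by
          calc v' = v⁻¹ * (e' : G)⁻¹ * ((e' : G) * (v * v')) := by group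
            _ = v⁻¹ * (e' : G)⁻¹ * ((e : G) * v) := by rw [h]
            _ = v⁻¹ * ((e' : G)⁻¹ * e) * v := by group
        rw [mul_assoc, hcomm _ (mem_sup_left (mul_mem (inv_mem e'.2) e.2)) v (mem_sup_right hv),
          inv_mul_cancel_left] at this
        exact hv'W (hEW v' (this ▸ mul_mem (inv_mem e'.2) e.2) hv')
      rintro (e | e | e) (e' | e' | e') h <;>
        simp only [f, Sum.elim_inl, Sum.elim_inr, Subtype.mk.injEq] at h
      · rw [Subtype.ext h]
      · exact absurd (by rw [show v = (e' : G)⁻¹ * e by rw [h]; group]; exact mul_mem (inv_mem e'.2) e.2) n1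
      · exact absurd (by rw [show v * v' = (e' : G)⁻¹ * e by rw [h]; group]; exact mul_mem (inv_mem e'.2) e.2) hne
      · exact absurd (by rw [show v = (e : G)⁻¹ * e' by rw [← h]; group]; exact mul_mem (inv_mem e.2) e'.2) n1
      · rw [Subtype.ext (mul_right_cancel h)]
      · exact absurd h (n2 e e')
      · exact absurd (by rw [show v * v' = (e : G)⁻¹ * e' by rw [← h]; group]; exact mul_mem (inv_mem e.2) e'.2) hne
      · exact absurd h.symm (n2 e' e)
      · rw [Subtype.ext (mul_right_cancel h)]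
    rw [Nat.card_sum, Nat.card_sum] at hcard
    have : 0 < Nat.card E := Nat.card_pos
    omega
  -- the same for `b`
  have hVmul' : ∀ v ∈ V, ∀ v' ∈ V, v ∉ W' → v' ∉ W' → v * v' ∈ W' := by
    intro v hv v' hv' hvW hv'W
    have hx' : ∀ u ∈ V, L.x⁻¹ * u * L.x ∈ V := fun u hu =>
      (mem_normalizer_iff''.1 (hVN L.mem) u).1 hu
    have hiff : ∀ u ∈ V, (u ∈ W' ↔ L.x⁻¹ * u * L.x ∈ W) := by
      intro u hu
      constructor
      · intro h
        refine ⟨hx' u hu, mem_centralizer_singleton_iff.2 ?_⟩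
        have h' := mem_centralizer_singleton_iff.1 h.2
        calc L.x⁻¹ * u * L.x * a = L.x⁻¹ * (u * b) * L.x := by rw [hb]; group
          _ = L.x⁻¹ * (b * u) * L.x := by rw [h']
          _ = a * (L.x⁻¹ * u * L.x) := by rw [hb]; group
      · intro h
        refine ⟨hu, mem_centralizer_singleton_iff.2 ?_⟩
        have h' := mem_centralizer_singleton_iff.1 h.2
        calc u * b = L.x * ((L.x⁻¹ * u * L.x) * a) * L.x⁻¹ := by rw [hb]; group
          _ = L.x * (a * (L.x⁻¹ * u * L.x)) * L.x⁻¹ := by rw [h']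
          _ = b * u := by rw [hb]; group
    rw [hiff _ (mul_mem hv hv'), show L.x⁻¹ * (v * v') * L.x = (L.x⁻¹ * v * L.x) * (L.x⁻¹ * v' * L.x) by group]
    exact hVmul _ (hx' v hv) _ (hx' v' hv') (fun h => hvW ((hiff v hv).2 h))
      (fun h => hv'W ((hiff v' hv').2 h))
  have hW2 : Nat.card W ≤ 2 := by
    by_contra hcon
    obtain ⟨u, hu1⟩ : ∃ u : W, u ≠ 1 := by
      haveI : Nontrivial W := Finite.one_lt_card_iff_nontrivial.1 (by omega)
      exact exists_ne 1
    obtain ⟨u', hu'1, hu'u⟩ : ∃ u' : W, u' ≠ 1 ∧ u' ≠ u := by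
      by_contra hh
      push Not at hh
      classical
      haveI := Fintype.ofFinite W
      rw [Nat.card_eq_fintype_card] at hcon
      refine hcon (le_trans (Finset.card_le_card (fun z _ => ?_ : (Finset.univ : Finset W) ⊆ {1, u})) Finset.card_le_two)
      by_cases hz : z = 1
      · simp [hz]
      · simp [hh z hz]
    have hn : ∀ z : W, z ≠ 1 → (z : G) ∉ W' := fun z hz h =>
      hz (Subtype.ext (hWW z z.2 h))
    have := hWW _ (mul_mem u'.2 u.2) (hVmul' _ u'.2.1 _ u.2.1 (hn u' hu'1) (hn u hu1))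
    refine hu'u (Subtype.ext ?_)
    calc (u' : G) = u' * (u * u) := by rw [u.2.1.2.2, mul_one]
      _ = u := by rw [← mul_assoc, this, one_mul]
  have hV4 : Nat.card V ≤ 4 := by
    by_cases hsub : ∀ v ∈ V, v ∈ W
    · exact (card_le_of_le hsub).trans (by omega)
    push Not at hsub
    obtain ⟨v0, hv0, hv0W⟩ := hsub
    refine (card_le_two_mul v0 fun z hz => ?_).trans (by omega : 2 * Nat.card W ≤ 4)
    by_cases hzW : z ∈ W
    · exact Or.inl hzW
    · exact Or.inr (hVmul v0 hv0 z hz hv0W hzW)
  have hV1 : V ≠ ⊥ := by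
    haveI : Nontrivial M.D := (Subgroup.nontrivial_iff_ne_bot _).2 M.ne_bot
    haveI := M.D_isPGroup.center_nontrivial
    obtain ⟨k, hk⟩ := IsPGroup.iff_card.1 (M.D_isPGroup.to_subgroup (center M.D))
    have hk0 : k ≠ 0 := fun e => by
      rw [e, pow_zero] at hk
      have := Finite.one_lt_card (α := center M.D)
      omega
    obtain ⟨z, hz⟩ := exists_prime_orderOf_dvd_card' (G := center M.D) 2 (hk ▸ dvd_pow_self 2 hk0)
    intro e
    have hzV : ((z : M.D) : G) ∈ V := ⟨z.1.2, fun d hd =>
      congrArg Subtype.val (mem_center_iff.1 z.2 ⟨d, hd⟩), by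
        rw [← pow_two, ← Subgroup.coe_pow, ← Subgroup.coe_pow, ← hz, pow_orderOf_eq_one]; rfl⟩
    rw [e, mem_bot] at hzV
    rw [show z = 1 from Subtype.ext (Subtype.ext hzV), orderOf_one] at hz
    omega
  have hVp : IsPGroup 2 V := M.D_isPGroup.to_le hVD
  haveI := Fact.mk L.prime
  -- `|V| ≡ 1` modulo `s`
  have hmod : L.s ∣ Nat.card V - 1 := by
    have := @CfsgLib.Solvable.card_dvd_card_pred_of_fpf ↥(normalizer (V : Set G)) _ _
      (V.subgroupOf _) ((zpowers L.x).subgroupOf _)
      ((normal_subgroupOf_iff_le_normalizer le_normalizer).2 le_rfl) (fun h hh h1 => ?_)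
    · rwa [Nat.card_congr (subgroupOfEquivOfLe le_normalizer).toEquiv,
        Nat.card_congr (subgroupOfEquivOfLe (zpowers_le.2 (hVN L.mem))).toEquiv, Nat.card_zpowers,
        L.order] at this
    · refine (eq_bot_iff_forall _).2 fun v hv => Subtype.ext ?_
      have hh' : (h : G) ∈ zpowers L.x := mem_subgroupOf.1 hh
      have hne : (h : G) ≠ 1 := fun e => h1 (Subtype.ext e)
      have ho : orderOf (h : G) = L.s := by
        refine (L.prime.eq_one_or_self_of_dvd _ ?_).resolve_left
          (fun e => hne (orderOf_eq_one_iff.1 e))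
        rw [← L.order, ← Nat.card_zpowers L.x, ← Nat.card_zpowers (h : G)]
        exact card_dvd_of_le (zpowers_le.2 hh')
      exact hg.eq_one_of_commute Nat.prime_two L.prime L.ne_two hVp ho (mem_subgroupOf.1 hv.1)
        (Commute.symm (congrArg Subtype.val (mem_centralizer_singleton_iff.1 hv.2)))
  obtain ⟨k, hk⟩ := IsPGroup.iff_card.1 hVp
  have hk2 : k ≤ 2 := by
    by_contra hk3
    have : 2 ^ 3 ≤ 2 ^ k := Nat.pow_le_pow_right two_pos (by omega)
    omega
  have hs3 : L.s = 3 ∧ Nat.card V = 4 := by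
    have := L.prime.two_le
    have := L.ne_two
    have hk0 : k ≠ 0 := fun e => hV1 (card_eq_one.1 (by rw [hk, e, pow_zero]))
    rcases (show k = 1 ∨ k = 2 by omega) with rfl | rfl
    · rw [hk] at hmod
      have := Nat.le_of_dvd one_pos hmod
      omega
    · rw [hk] at hmod
      exact ⟨(Nat.prime_dvd_prime_iff_eq L.prime Nat.prime_three).1 hmod, hk⟩
  obtain ⟨hs, hV4'⟩ := hs3
  have hfpf3 : ∀ z ∈ M.N, orderOf z = 3 → ∀ d ∈ M.D, Commute z d → d = 1 := fun z hz h3 =>
    hfpf z hz (h3 ▸ Nat.prime_three) (h3 ▸ by norm_num)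
  -- `E` has order at most two
  have hy3 : orderOf y = 3 := hys.trans hs
  have hnorm : ∀ z ∈ M.N, orderOf z = 3 → ∀ d ∈ M.D,
      d * (z * d * z⁻¹) * (z * z * d * (z * z)⁻¹) = 1 := by
    intro z hz h3 d hd
    have := L.orderOf_mul d (hLK.symm ▸ hd) z hz (h3 ▸ Nat.prime_three) (h3 ▸ by norm_num)
    rw [hs] at this
    have h1 : d * z * (d * z) * (d * z) = 1 := by
      rw [show d * z * (d * z) * (d * z) = (d * z) ^ 3 from (pow_three' _).symm, ← this, pow_orderOf_eq_one]
    have h2 : z * z * z = 1 := by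
      rw [show z * z * z = z ^ 3 from (pow_three' z).symm, ← h3, pow_orderOf_eq_one]
    calc d * (z * d * z⁻¹) * (z * z * d * (z * z)⁻¹) = d * z * (d * z) * d * (z * z)⁻¹ := by group
      _ = d * z * (d * z) * (d * z) * (z * z * z)⁻¹ := by group
      _ = 1 := by rw [h1, h2, inv_one, one_mul]
  have hay : a * y * a⁻¹ = y⁻¹ := by
    rw [hy, mul_inv_rev, inv_eq_of_mul_eq_one_right (sq_one_of_orderOf_two hao),
      inv_eq_of_mul_eq_one_right (sq_one_of_orderOf_two hbo), ← mul_assoc, sq_one_of_orderOf_two hao,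
      one_mul]
  have hE2 : Nat.card E ≤ 2 := by
    have hy' : orderOf y⁻¹ = 3 := by rw [orderOf_inv, hy3]
    have hyy : y⁻¹ = y * y := by
      refine inv_eq_of_mul_eq_one_right ?_
      rw [show y * (y * y) = y ^ 3 from (pow_three _).symm, ← hy3, pow_orderOf_eq_one]
    have hcE : ∀ c ∈ E, ∀ e ∈ E, Commute e (y * c * y⁻¹) := by
      intro c hc e he
      refine commute_of_norm (hsqA c hc.1) (hsqA e he.1) (hcA c hc.1 e he.1) (fun d hd => ?_)
      · have := hnorm y⁻¹ (inv_mem hyN) hy' d (by
          rcases hd with rfl | rfl | rfl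
          · exact hc.2
          · exact he.2
          · exact mul_mem hc.2 he.2)
        rw [hyy, show y * y * (y * y) = y * (y * y * y) by group,
          show y * y * y = 1 by rw [show y * y * y = y ^ 3 from (pow_three' y).symm, ← hy3, pow_orderOf_eq_one],
          mul_one] at this
        exact this
    set E' := E.map (MulAut.conj y).toMonoidHom with hE'
    have hEE : ∀ u ∈ E ⊔ E', ∀ w ∈ E ⊔ E', u * w = w * u := by
      intro u hu w hw
      rw [sup_eq_closure] at hu hw
      haveI := isMulCommutative_closure (k := (E : Set G) ∪ (E' : Set G)) (by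
        rintro p (hp | ⟨p, hp, rfl⟩) q (hq | ⟨q, hq, rfl⟩)
        · exact hcA p hp.1 q hq.1
        · exact (hcE q hq p hp).eq
        · exact (hcE p hp q hq).eq.symm
        · simp only [MulEquiv.coe_toMonoidHom, MulAut.conj_apply]
          calc y * p * y⁻¹ * (y * q * y⁻¹) = y * (p * q) * y⁻¹ := by group
            _ = y * (q * p) * y⁻¹ := by rw [hcA p hp.1 q hq.1]
            _ = y * q * y⁻¹ * (y * p * y⁻¹) := by group)
      exact congrArg Subtype.val (IsMulCommutative.is_comm.comm
        (⟨u, hu⟩ : closure ((E : Set G) ∪ (E' : Set G))) ⟨w, hw⟩)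
    have hE'D : E' ≤ M.D := by
      rintro _ ⟨e, he, rfl⟩
      exact (mem_normalizer_iff.1 hyN e).1 he.2
    have hle : Nat.card ↥(E ⊔ E') ≤ Nat.card A := by
      refine hAmax _ ((sup_le inf_le_right hE'D).trans M.D_le_T)
        ⟨⟨⟨fun u w => Subtype.ext (hEE u u.2 w w.2)⟩⟩, fun u hu => ?_⟩
      rw [sup_eq_closure] at hu
      induction hu using closure_induction with
      | mem u hu =>
        rcases hu with hu | ⟨e, he, rfl⟩
        · exact hAea.2 u hu.1
        · rw [← map_pow, hAea.2 e he.1, map_one]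
      | one => exact one_pow _
      | mul p q hp hq hp2 hq2 =>
        rw [(show Commute p q from hEE p (by rwa [sup_eq_closure]) q
          (by rwa [sup_eq_closure])).mul_pow, hp2, hq2, one_mul]
      | inv p _ hp2 => rw [inv_pow, hp2, inv_one]
    have hinj : Nat.card (E × E) ≤ Nat.card ↥(E ⊔ E') := by
      let f : E × E → ↥(E ⊔ E') := fun p => ⟨p.1 * (y * p.2 * y⁻¹),
        mul_mem (mem_sup_left p.1.2) (mem_sup_right ⟨p.2, p.2.2, rfl⟩)⟩
      refine Nat.card_le_card_of_injective f ?_
      rintro ⟨c, e⟩ ⟨c', e'⟩ h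
      have h1 : (c : G) * (y * e * y⁻¹) = c' * (y * e' * y⁻¹) := congrArg Subtype.val h
      have hd : (c' : G)⁻¹ * c = y * (e' * (e : G)⁻¹) * y⁻¹ := by
        calc (c' : G)⁻¹ * c = (c' : G)⁻¹ * ((c : G) * (y * e * y⁻¹)) * (y * (e : G)⁻¹ * y⁻¹) := by group
          _ = (c' : G)⁻¹ * ((c' : G) * (y * e' * y⁻¹)) * (y * (e : G)⁻¹ * y⁻¹) := by rw [h1]
          _ = y * (e' * (e : G)⁻¹) * y⁻¹ := by group
      have h0 : (c' : G)⁻¹ * c = 1 := by
        refine hfpf3 y hyN hy3 _ (mul_mem (inv_mem c'.2.2) c.2.2) ?_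
        set d := (c' : G)⁻¹ * c
        have hda : Commute a d := hcA a haA d (mul_mem (inv_mem c'.2.1) c.2.1)
        set e0 := (e' : G) * (e : G)⁻¹
        have hea : Commute a e0 := hcA a haA e0 (mul_mem e'.2.1 (inv_mem e.2.1))
        have hb' : Commute (y * a * y⁻¹) d := by
          show y * a * y⁻¹ * d = d * (y * a * y⁻¹)
          rw [hd]
          calc y * a * y⁻¹ * (y * e0 * y⁻¹) = y * (a * e0) * y⁻¹ := by group
            _ = y * (e0 * a) * y⁻¹ := by rw [hea.eq]
            _ = y * e0 * y⁻¹ * (y * a * y⁻¹) := by group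
        have hya : a * (y * a⁻¹ * y⁻¹) = y := by
          calc a * (y * a⁻¹ * y⁻¹) = (a * y * a⁻¹) * y⁻¹ := by group
            _ = y⁻¹ * y⁻¹ * y ^ 3 := by rw [hay, ← hy3, pow_orderOf_eq_one, mul_one]
            _ = y := by group
        rw [← hya]
        refine hda.mul_left ?_
        rw [show y * a⁻¹ * y⁻¹ = (y * a * y⁻¹)⁻¹ by group]
        exact hb'.inv_left
      have e1 : c = c' := Subtype.ext (inv_mul_eq_one.1 h0).symm
      subst e1
      have e2 : (e : G) = e' := mul_left_cancel (mul_right_cancel (mul_left_cancel h1))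
      rw [Subtype.ext e2]
    rw [Nat.card_prod] at hinj
    have hle2 : Nat.card E * Nat.card E ≤ 2 * Nat.card E := hinj.trans (hle.trans hAE)
    exact Nat.le_of_mul_le_mul_right hle2 Nat.card_pos
  have hA4 : Nat.card A ≤ 4 := hAE.trans (by omega)
  -- every involution of `D` lies in `V`
  have homega : ∀ d ∈ M.D, d * d = 1 → d ∈ V := by
    intro d hd hd2
    by_contra hdV
    have hc : ∀ u ∈ V ⊔ zpowers d, ∀ w ∈ V ⊔ zpowers d, u * w = w * u := by
      intro u hu w hw
      rw [sup_eq_closure] at hu hw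
      haveI := isMulCommutative_closure (k := (V : Set G) ∪ (zpowers d : Set G)) (by
        rintro p (hp | hp) q (hq | hq)
        · exact hq.2.1 p hp.1
        · exact (hp.2.1 q (zpowers_le.2 hd hq)).symm
        · exact hq.2.1 p (zpowers_le.2 hd hp)
        · exact setLike_mul_comm hp hq)
      exact congrArg Subtype.val (IsMulCommutative.is_comm.comm
        (⟨u, hu⟩ : closure ((V : Set G) ∪ (zpowers d : Set G))) ⟨w, hw⟩)
    have hle : Nat.card ↥(V ⊔ zpowers d) ≤ Nat.card A := by
      refine hAmax _ ((sup_le hVD (zpowers_le.2 hd)).trans M.D_le_T)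
        ⟨⟨⟨fun u w => Subtype.ext (hc u u.2 w w.2)⟩⟩, fun u hu => ?_⟩
      rw [sup_eq_closure] at hu
      induction hu using closure_induction with
      | mem u hu =>
        rcases hu with hu | ⟨i, rfl⟩
        · rw [pow_two]; exact hu.2.2
        · show (d ^ i) ^ 2 = 1
          rw [← zpow_natCast, ← zpow_mul, mul_comm, zpow_mul, zpow_natCast, pow_two, hd2, one_zpow]
      | one => exact one_pow _
      | mul p q hp hq hp2 hq2 =>
        rw [(show Commute p q from hc p (by rwa [sup_eq_closure]) q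
          (by rwa [sup_eq_closure])).mul_pow, hp2, hq2, one_mul]
      | inv p _ hp2 => rw [inv_pow, hp2, inv_one]
    have hlt : V < V ⊔ zpowers d :=
      left_lt_sup.2 fun h => hdV (h (mem_zpowers d))
    have h1 : Nat.card V < Nat.card ↥(V ⊔ zpowers d) :=
      lt_of_le_of_ne (card_le_of_le hlt.le) fun e => hlt.ne (eq_of_le_of_card_ge hlt.le e.ge)
    omega
  have htwo : ∀ t ∈ M.T, t ∉ M.D → ∀ t' ∈ M.T, t' ∉ M.D → t * t' ∈ M.D := by
    intro t ht htD t' ht' ht'D
    rw [← hLK] at htD ht'D ⊢
    exact L.mul_mem_three hs M.T M.T_isPGroup inf_le_right t ht t' ht' htD ht'D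
  refine ⟨V, hVD, fun v hv => ⟨hv.2.2, hv.2.1⟩, hVN, hV4', hfpf3, htwo, ⟨a, hAT haA, haD, hao⟩, ?_⟩
  intro t ht htD hto
  refine ⟨hV4', homega, fun g hg d hd => (mem_normalizer_iff.1 hg d).1 hd, ?_⟩
  obtain ⟨h1, h2, h3⟩ := L.order_mul_conj t ht.2 hto (hLK ▸ htD)
  refine ⟨t * (L.x * t * L.x⁻¹), mul_mem ht.2 (mul_mem (mul_mem L.mem ht.2) (inv_mem L.mem)),
    h3.trans hs, ?_, hfpf3 _ (mul_mem ht.2 (mul_mem (mul_mem L.mem ht.2) (inv_mem L.mem))) (h3.trans hs)⟩
  rw [mul_inv_rev, inv_eq_of_mul_eq_one_right (sq_one_of_orderOf_two hto),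
    inv_eq_of_mul_eq_one_right (sq_one_of_orderOf_two h2), ← mul_assoc, sq_one_of_orderOf_two hto,
    one_mul]

/-- A pair with different Thompson subgroups gives a self-centralising four group in a
Sylow subgroup of order at least eight. -/
theorem exists_four [IsSimpleGroup G] (M : MaxPair G) (hna : ¬ IsMulCommutative G) :
    ∃ (S : Sylow 2 G) (V : Subgroup G), V ≤ S ∧ Nat.card V = 4 ∧ (∀ v ∈ V, v * v = 1) ∧
      centralizer (V : Set G) = V ∧ 8 ≤ Nat.card (S : Subgroup G) := by
  classical
  haveI : Fact (Nat.Prime 2) := ⟨Nat.prime_two⟩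
  obtain ⟨V, hVD, hVprop, hVN, hV4, hfpf, htwo, ⟨a, haT, haD, hao⟩, hout⟩ :=
    M.exists_configuration hg hls
  have hVle : V ≤ M.T := hVD.trans M.D_le_T
  have hVcomm : ∀ v ∈ V, ∀ w ∈ V, v * w = w * v := fun v hv w hw => (hVprop w hw).2 v (hVD hv)
  have hTN : M.T ≤ M.N := inf_le_right
  have hTVn : ∀ t ∈ M.T, t ∈ normalizer (V : Set G) := fun t ht => hVN (hTN ht)
  -- fixed points of an outer involution on `V`, and the unique involution of its fixed points
  have hfix : ∀ b ∈ M.T, b ∉ M.D → orderOf b = 2 → ∃ v ∈ V, v ≠ 1 ∧ Commute b v ∧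
      (∀ d ∈ M.D, Commute b d → d * d = 1 → d = 1 ∨ d = v) := by
    intro b hb hbD hbo
    obtain ⟨y, hyN, hy3, hby, hyf⟩ := (hout b hb hbD hbo).exists_y
    have hyV : ∀ v ∈ V, y⁻¹ * v * y ∈ V := fun v hv =>
      (mem_normalizer_iff''.1 (hVN hyN) v).1 hv
    obtain ⟨v, hv, hv1, hbv⟩ : ∃ v ∈ V, v ≠ 1 ∧ Commute b v := by
      obtain ⟨⟨w, hw⟩, hw1⟩ := (Finite.one_lt_card_iff_nontrivial.1 (by omega : 1 < Nat.card V)).exists_pair_ne
        |> fun ⟨p, q, hpq⟩ => (show ∃ u : V, u ≠ 1 from if hp : p = 1 then ⟨q, fun hq => hpq (hp.trans hq.symm)⟩ else ⟨p, hp⟩)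
      have hw1' : w ≠ 1 := fun e => hw1 (Subtype.ext e)
      by_cases hc : Commute b w
      · exact ⟨w, hw, hw1', hc⟩
      set w' := b * w * b⁻¹ with hw'
      have hw'V : w' ∈ V := (mem_normalizer_iff.1 (hTVn b hb) w).1 hw
      refine ⟨w' * w, mul_mem hw'V hw, fun e => hc ?_, ?_⟩
      · have : w' = w := by
          rw [eq_inv_of_mul_eq_one_left e, inv_eq_of_mul_eq_one_right (hVprop w hw).1]
        exact mul_inv_eq_iff_eq_mul.1 this
      · have hbb : b * w' * b⁻¹ = w := by
          rw [hw', show b * (b * w * b⁻¹) * b⁻¹ = b * b * w * (b * b)⁻¹ by group,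
            sq_one_of_orderOf_two hbo, one_mul, inv_one, mul_one]
        refine mul_inv_eq_iff_eq_mul.1 ?_
        rw [show b * (w' * w) * b⁻¹ = b * w' * b⁻¹ * (b * w * b⁻¹) by group, hbb, ← hw',
          hVcomm w hw w' hw'V]
    refine ⟨v, hv, hv1, hbv, fun d hd hbd hd2 => ?_⟩
    by_contra hne
    push Not at hne
    have hdV : d ∈ V := (hout b hb hbD hbo).omega d hd hd2
    -- then `b` centralises `V`
    have hall : ∀ w ∈ V, Commute b w := by
      intro w hw
      by_contra hbw
      let f : Fin 5 → V := ![1, ⟨v, hv⟩, ⟨d, hdV⟩, ⟨v * d, mul_mem hv hdV⟩, ⟨w, hw⟩]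
      have hvd : v * d ≠ 1 := fun e => hne.2 (by
        rw [eq_inv_of_mul_eq_one_right e, inv_eq_of_mul_eq_one_right (hVprop v hv).1])
      have hb1 : Commute b (1 : G) := Commute.one_right b
      have hinj : Function.Injective f := by
        have e1 : (1 : G) ≠ v := Ne.symm hv1
        have e2 : (1 : G) ≠ d := Ne.symm hne.1
        have e3 : (1 : G) ≠ v * d := Ne.symm hvd
        have e4 : v ≠ d := Ne.symm hne.2
        have e5 : v ≠ v * d := fun e => hne.1 (mul_eq_left.1 e.symm)
        have e6 : d ≠ v * d := fun e => hv1 (mul_eq_right.1 e.symm)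
        have e7 : (1 : G) ≠ w := fun e => hbw (e ▸ hb1)
        have e8 : v ≠ w := fun e => hbw (e ▸ hbv)
        have e9 : d ≠ w := fun e => hbw (e ▸ hbd)
        have e10 : v * d ≠ w := fun e => hbw (e ▸ hbv.mul_right hbd)
        intro i j hij
        have := congrArg (fun u : V => (u : G)) hij
        fin_cases i <;> fin_cases j <;> first
          | rfl
          | exact absurd this e1 | exact absurd this.symm e1
          | exact absurd this e2 | exact absurd this.symm e2
          | exact absurd this e3 | exact absurd this.symm e3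
          | exact absurd this e4 | exact absurd this.symm e4
          | exact absurd this e5 | exact absurd this.symm e5
          | exact absurd this e6 | exact absurd this.symm e6
          | exact absurd this e7 | exact absurd this.symm e7
          | exact absurd this e8 | exact absurd this.symm e8
          | exact absurd this e9 | exact absurd this.symm e9
          | exact absurd this e10 | exact absurd this.symm e10
      have := Nat.card_le_card_of_injective f hinj
      rw [Nat.card_fin] at this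
      omega
    exact hv1 ((hout b hb hbD hbo).eq_one_of_commute_conj hy3 hby hyf (hVD hv) (hall v hv)
      (hall _ (hyV v hv)) (e := y⁻¹ * v * y) (by group))
  -- `D = V`
  have hDV : M.D = V := by
    by_cases hTR : M.T = (M.R₁ : Subgroup G)
    · obtain ⟨v, hv, hv1, hav, hvu⟩ := hfix a haT haD hao
      obtain ⟨y, hyN, hy3, hay, hyf⟩ := (hout a haT haD hao).exists_y
      have haN : a ∈ M.N := hTN haT
      have hcases : ∀ t ∈ M.T, t ∈ M.D ∨ a * t ∈ M.D := fun t ht => by
        by_cases htD : t ∈ M.D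
        · exact Or.inl htD
        · exact Or.inr (htwo a haT haD t ht htD)
      have hidx : M.D.relIndex (M.R₁ : Subgroup G) = 2 := by
        rw [← hTR]
        have h1 := card_le_two_mul (A := M.T) (E := M.D) a hcases
        have h2 := Subgroup.card_mul_index (M.D.subgroupOf M.T)
        rw [Nat.card_congr (subgroupOfEquivOfLe M.D_le_T).toEquiv] at h2
        change Nat.card M.D * M.D.relIndex M.T = Nat.card M.T at h2
        have h3 : M.D.relIndex M.T ≠ 1 := fun e => haD (relIndex_eq_one.1 e haT)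
        have h4 : M.D.relIndex M.T ≠ 0 := fun e => by
          rw [e, mul_zero] at h2; exact Nat.card_pos.ne h2
        have h5 : M.D.relIndex M.T ≤ 2 := by
          rw [← h2, mul_comm 2] at h1
          exact Nat.le_of_mul_le_mul_left h1 Nat.card_pos
        omega
      obtain ⟨g, hgD⟩ := CfsgLib.Small.thompson_transfer_sylow
        (CfsgLib.EPPOSeven.no_index_two hna) M.R₁ M.D (M.D_le_T.trans hTR.le) hidx hao
      -- `a` is conjugate to `v`
      set w := g⁻¹ * a * g with hw
      have hwo : orderOf w = 2 := by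
        rw [show w = MulAut.conj g⁻¹ a by simp [hw], MulEquiv.orderOf_eq, hao]
      have hwV : w ∈ V := (hout a haT haD hao).omega w hgD (sq_one_of_orderOf_two hwo)
      have hyV : ∀ u ∈ V, y * u * y⁻¹ ∈ V := fun u hu => (mem_normalizer_iff.1 (hVN hyN) u).1 hu
      obtain ⟨k, hk⟩ : ∃ k : G, k⁻¹ * w * k = v := by
        by_contra hno
        push Not at hno
        have hw1 : w ≠ 1 := fun e => by rw [e, orderOf_one] at hwo; omega
        let w1 := y * w * y⁻¹
        let w2 := y * w1 * y⁻¹
        have h3' : y * y * y = 1 := by rw [← pow_three', ← hy3, pow_orderOf_eq_one]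
        have d1 : w1 ≠ w := fun e => hw1 (hyf w (hVD hwV) (mul_inv_eq_iff_eq_mul.1 e))
        have d2 : w2 ≠ w1 := fun e => d1 (mul_left_cancel (mul_right_cancel e))
        have d3 : w2 ≠ w := fun e => d1 (by
          have e' : y * w1 * y⁻¹ = w := e
          calc w1 = y * w * y⁻¹ := rfl
            _ = y * (y * w1 * y⁻¹) * y⁻¹ := by rw [e']
            _ = y * y * y * w * (y * y * y)⁻¹ := by simp only [w1]; group
            _ = w := by rw [h3', one_mul, inv_one, mul_one])
        have n1 : w1 ≠ 1 := fun e => hw1 (conj_eq_one_iff.1 e)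
        have n2 : w2 ≠ 1 := fun e => n1 (conj_eq_one_iff.1 e)
        have v0 : v ≠ w := fun e => hno 1 (by simp [e])
        have v1 : v ≠ w1 := fun e => hno y⁻¹ (by rw [e, inv_inv])
        have v2 : v ≠ w2 := fun e => hno (y⁻¹ * y⁻¹) (by rw [e]; simp [w2, w1, mul_assoc])
        let f : Fin 5 → V := ![1, ⟨v, hv⟩, ⟨w, hwV⟩, ⟨w1, hyV w hwV⟩, ⟨w2, hyV _ (hyV w hwV)⟩]
        have hinj : Function.Injective f := by
          intro i j hij
          have := congrArg (fun u : V => (u : G)) hij
          fin_cases i <;> fin_cases j <;> first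
            | rfl
            | exact absurd this hv1 | exact absurd this.symm hv1
            | exact absurd this hw1 | exact absurd this.symm hw1
            | exact absurd this n1 | exact absurd this.symm n1
            | exact absurd this n2 | exact absurd this.symm n2
            | exact absurd this v0 | exact absurd this.symm v0
            | exact absurd this v1 | exact absurd this.symm v1
            | exact absurd this v2 | exact absurd this.symm v2
            | exact absurd this d1 | exact absurd this.symm d1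
            | exact absurd this d2 | exact absurd this.symm d2
            | exact absurd this d3 | exact absurd this.symm d3
        have := Nat.card_le_card_of_injective f hinj
        rw [Nat.card_fin] at this
        omega
      have hconj : (g * k)⁻¹ * a * (g * k) = v := by rw [← hk, hw]; group
      -- the centraliser of `v` is the Sylow subgroup
      have hvo : orderOf v = 2 := orderOf_two_of_sq_one (hVprop v hv).1 hv1
      have hRv : (M.R₁ : Subgroup G) ≤ centralizer ({v} : Set G) := by
        rw [← hTR]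
        intro t ht
        refine mem_centralizer_singleton_iff.2 ?_
        rcases hcases t ht with htD | htD
        · exact (hVprop v hv).2 t htD
        · have h1 : Commute (a * t) v := (hVprop v hv).2 _ htD
          have : t = a⁻¹ * (a * t) := by group
          rw [this]
          exact (hav.inv_left.mul_left h1).eq
      have hCv : centralizer ({v} : Set G) = (M.R₁ : Subgroup G) :=
        M.R₁.3 (hg.isPGroup_centralizer Nat.prime_two hvo) hRv
      have hcardCa : Nat.card (centralizer ({a} : Set G)) = Nat.card (M.R₁ : Subgroup G) := by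
        rw [← hCv]
        refine Nat.card_congr ((MulAut.conj (g * k)⁻¹).toEquiv.subtypeEquiv fun z => ?_)
        simp only [MulEquiv.toEquiv_eq_coe, MulEquiv.coe_toEquiv, MulAut.conj_apply, inv_inv,
          mem_centralizer_singleton_iff]
        rw [← hconj]
        constructor
        · intro h
          calc (g * k)⁻¹ * z * (g * k) * ((g * k)⁻¹ * a * (g * k)) = (g * k)⁻¹ * (z * a) * (g * k) := by group
            _ = (g * k)⁻¹ * (a * z) * (g * k) := by rw [h]
            _ = _ := by group
        · intro h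
          calc z * a = (g * k) * ((g * k)⁻¹ * z * (g * k) * ((g * k)⁻¹ * a * (g * k))) * (g * k)⁻¹ := by group
            _ = (g * k) * ((g * k)⁻¹ * a * (g * k) * ((g * k)⁻¹ * z * (g * k))) * (g * k)⁻¹ := by rw [h]
            _ = a * z := by group
      -- so the fixed points of `a` in `D` lie in `V`
      have hCV : ∀ c ∈ M.D, Commute a c → c ∈ V := by
        intro c hc hac
        by_contra hcV
        obtain ⟨j, hj⟩ := exists_two_pow_of_mem M.D_isPGroup hc
        have hj2 : 2 ≤ j := by
          by_contra hj2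
          refine hcV ((hout a haT haD hao).omega c hc ?_)
          rw [← pow_two, ← orderOf_dvd_iff_pow_eq_one, hj]
          exact pow_dvd_pow 2 (by omega : j ≤ 1)
        set c' := c ^ 2 ^ (j - 2) with hc'
        have hc'D : c' ∈ M.D := pow_mem hc _
        have hac' : Commute a c' := hac.pow_right _
        have hc'o : orderOf c' = 4 := by
          rw [hc', orderOf_pow, hj, Nat.gcd_eq_right (pow_dvd_pow 2 (Nat.sub_le _ _)),
            Nat.pow_div (Nat.sub_le _ _) two_pos, show j - (j - 2) = 2 by omega]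
          norm_num
        have hsq : c' * c' = v := by
          refine (hvu _ (mul_mem hc'D hc'D) (hac'.mul_right hac') ?_).resolve_left fun e => ?_
          · rw [show c' * c' * (c' * c') = c' ^ 4 by simp [pow_succ, mul_assoc], ← hc'o, pow_orderOf_eq_one]
          · have : orderOf c' ∣ 2 := orderOf_dvd_of_pow_eq_one (by rw [pow_two, e])
            rw [hc'o] at this
            norm_num at this
        set U := (M.R₁ : Subgroup G) ⊓ centralizer ({a} : Set G) with hU
        have hUne : U ≠ centralizer ({a} : Set G) := by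
          intro e
          have hle : centralizer ({a} : Set G) ≤ M.R₁ := e ▸ inf_le_left
          have heq : centralizer ({a} : Set G) = (M.R₁ : Subgroup G) :=
            eq_of_le_of_card_ge hle hcardCa.ge
          refine hv1 ((hout a haT haD hao).eq_one_of_commute_conj hy3 hay hyf (hVD hv) hav
            (e := y⁻¹ * v * y) ?_ (by group))
          have : y⁻¹ * v * y ∈ centralizer ({a} : Set G) := by
            rw [heq, ← hTR]
            exact hVle ((mem_normalizer_iff''.1 (hVN hyN) v).1 hv)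
          exact Commute.symm (mem_centralizer_singleton_iff.1 this)
        obtain ⟨n, hnC, hnU, hnN⟩ := exists_normalizing_notMem
          (hg.isPGroup_centralizer Nat.prime_two hao) inf_le_right hUne
        suffices hnv : n * v = v * n by
          refine hnU (Subgroup.mem_inf.2 ⟨?_, hnC⟩)
          have := mem_centralizer_singleton_iff.2 hnv
          rwa [hCv] at this
        have hu : n * c' * n⁻¹ ∈ U := (mem_normalizer_iff.1 hnN c').1
          ⟨(M.D_le_T.trans hTR.le) hc'D, mem_centralizer_singleton_iff.2 hac'.symm.eq⟩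
        set u := n * c' * n⁻¹ with huo
        have hua : Commute a u := Commute.symm (mem_centralizer_singleton_iff.1 hu.2)
        have hu2 : u * u = n * v * n⁻¹ := by rw [huo, ← hsq]; group
        have huD : u * u ∈ M.D := by
          rcases hcases u (hTR ▸ hu.1) with h | h
          · exact mul_mem h h
          · have : u * u = (a * u) * (a * u) := by
              rw [show a * u * (a * u) = a * (u * a) * u by group, ← hua.eq,
                show a * (a * u) * u = a * a * (u * u) by group, sq_one_of_orderOf_two hao, one_mul]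
            rw [this]
            exact mul_mem h h
        have hvv : n * v * n⁻¹ * (n * v * n⁻¹) = 1 := by
          rw [show n * v * n⁻¹ * (n * v * n⁻¹) = n * (v * v) * n⁻¹ by group, (hVprop v hv).1,
            mul_one, mul_inv_cancel]
        rcases hvu _ huD (hua.mul_right hua) (by rw [hu2]; exact hvv) with h | h
        · rw [hu2, conj_eq_one_iff] at h
          exact absurd h hv1
        · rw [hu2, mul_inv_eq_iff_eq_mul] at h
          exact h
      -- hence `D = V`
      refine le_antisymm ?_ hVD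
      by_contra hne
      have haVn : zpowers a ≤ normalizer (V : Set G) := zpowers_le.2 (hVN haN)
      have hPT : V ⊔ zpowers a ≤ M.T := sup_le hVle (zpowers_le.2 haT)
      have hmemP : ∀ z ∈ V ⊔ zpowers a, ∃ u ∈ V, z = u ∨ z = u * a := by
        intro z hz
        rw [← SetLike.mem_coe, coe_mul_of_right_le_normalizer_left V (zpowers a) haVn] at hz
        obtain ⟨u, hu, r, ⟨i, rfl⟩, rfl⟩ := hz
        refine ⟨u, hu, ?_⟩
        show u * a ^ i = u ∨ u * a ^ i = u * a
        rw [← zpow_mod_orderOf, hao]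
        rcases Int.emod_two_eq_zero_or_one i with h | h <;> simp [h]
      have hPne : V ⊔ zpowers a ≠ M.T := by
        intro e
        refine hne fun d hd => ?_
        obtain ⟨u, hu, h | h⟩ := hmemP d (e ▸ M.D_le_T hd)
        · exact h ▸ hu
        · exfalso
          refine haD ?_
          rw [show a = u⁻¹ * d by rw [h]; group]
          exact mul_mem (inv_mem (hVD hu)) hd
      obtain ⟨t, htT, htP, htN⟩ := exists_normalizing_notMem M.T_isPGroup hPT hPne
      obtain ⟨d, hdD, hdP, hdN⟩ : ∃ d ∈ M.D, d ∉ V ⊔ zpowers a ∧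
          d ∈ normalizer ((V ⊔ zpowers a : Subgroup G) : Set G) := by
        rcases hcases t htT with h | h
        · exact ⟨t, h, htP, htN⟩
        · refine ⟨a * t, h, fun e => htP ?_, mul_mem (le_normalizer (mem_sup_right (mem_zpowers a))) htN⟩
          exact (mul_mem_cancel_left (mem_sup_right (mem_zpowers a))).1 e
      set z := d * a * d⁻¹ * a⁻¹ with hz
      have hzD : z ∈ M.D := by
        rw [hz, show d * a * d⁻¹ * a⁻¹ = d * (a * d⁻¹ * a⁻¹) by group]
        exact mul_mem hdD ((mem_normalizer_iff.1 haN _).1 (inv_mem hdD))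
      have hzP : z ∈ V ⊔ zpowers a :=
        mul_mem ((mem_normalizer_iff.1 hdN a).1 (mem_sup_right (mem_zpowers a)))
          (inv_mem (mem_sup_right (mem_zpowers a)))
      obtain ⟨u, hu, h | h⟩ := hmemP z hzP
      swap
      · refine haD ?_
        rw [show a = u⁻¹ * z by rw [h]; group]
        exact mul_mem (inv_mem (hVD hu)) hzD
      have hzV : z ∈ V := h ▸ hu
      -- `z` is fixed by `a`
      have hainv : a⁻¹ = a := inv_eq_of_mul_eq_one_right (sq_one_of_orderOf_two hao)
      have hzinv : z⁻¹ = z := inv_eq_of_mul_eq_one_right (hVprop z hzV).1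
      have haz : Commute a z := by
        refine mul_inv_eq_iff_eq_mul.1 ?_
        calc a * z * a⁻¹ = a * d * a * d⁻¹ * (a⁻¹ * a⁻¹) := by rw [hz]; group
          _ = a * d * a * d⁻¹ := by rw [← mul_inv_rev, sq_one_of_orderOf_two hao, inv_one, mul_one]
          _ = z⁻¹ := by rw [hz]; simp only [mul_inv_rev, inv_inv, hainv]; group
          _ = z := hzinv
      have hdc : ∀ e ∈ M.D, e * a * e⁻¹ * a⁻¹ = 1 → e ∈ V := fun e he h1 => by
        rw [mul_inv_eq_one, mul_inv_eq_iff_eq_mul] at h1
        exact hCV e he h1.symm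
      rcases hvu z hzD haz (hVprop z hzV).1 with h1 | h1
      · exact hdP (mem_sup_left (hdc d hdD h1))
      · -- multiply by an element of `V` moved by `a`
        obtain ⟨w, hwV, hwa⟩ : ∃ w ∈ V, ¬ Commute a w := by
          by_contra hcon
          push Not at hcon
          exact hv1 ((hout a haT haD hao).eq_one_of_commute_conj hy3 hay hyf (hVD hv) hav
            (hcon _ ((mem_normalizer_iff''.1 (hVN hyN) v).1 hv)) (e := y⁻¹ * v * y) (by group))
        set r := w * a * w⁻¹ * a⁻¹ with hr
        have hrV : r ∈ V := by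
          rw [hr, show w * a * w⁻¹ * a⁻¹ = w * (a * w⁻¹ * a⁻¹) by group]
          exact mul_mem hwV ((mem_normalizer_iff.1 (hVN haN) _).1 (inv_mem hwV))
        have hrinv : r⁻¹ = r := inv_eq_of_mul_eq_one_right (hVprop r hrV).1
        have har : Commute a r := by
          refine mul_inv_eq_iff_eq_mul.1 ?_
          calc a * r * a⁻¹ = a * w * a * w⁻¹ * (a⁻¹ * a⁻¹) := by rw [hr]; group
            _ = a * w * a * w⁻¹ := by rw [← mul_inv_rev, sq_one_of_orderOf_two hao, inv_one, mul_one]
            _ = r⁻¹ := by rw [hr]; simp only [mul_inv_rev, inv_inv, hainv]; group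
            _ = r := hrinv
        have hrv : r = v := by
          refine (hvu r (hVD hrV) har (hVprop r hrV).1).resolve_left fun e => hwa ?_
          rw [hr, mul_inv_eq_one, mul_inv_eq_iff_eq_mul] at e
          exact e.symm
        refine hdP (mem_sup_left ?_)
        have hmem : w * d ∈ V := by
          refine hdc _ (mul_mem (hVD hwV) hdD) ?_
          calc w * d * a * (w * d)⁻¹ * a⁻¹ = w * (z * a) * w⁻¹ * a⁻¹ := by rw [hz]; group
            _ = (w * z * w⁻¹) * r := by rw [hr]; group
            _ = z * r := by rw [hVcomm w hwV z hzV, mul_inv_cancel_right]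
            _ = 1 := by rw [h1, hrv, (hVprop v hv).1]
        exact (mul_mem_cancel_left hwV).1 hmem
    · obtain ⟨g, hgR, hgT, hgN⟩ := exists_normalizing_notMem M.R₁.2 inf_le_left hTR
      have hgV : g ∉ normalizer (V : Set G) := by
        intro h
        refine hgT ⟨hgR, ?_⟩
        rwa [M.normalizer_eq hg hls (fun e => by rw [e, card_bot] at hV4; omega) hVD hVN] at h
      obtain ⟨v0, hv0, hv0g⟩ : ∃ v0 ∈ V, g * v0 * g⁻¹ ∉ V := by
        by_contra hcon
        push Not at hcon
        refine hgV (mem_normalizer_iff_map_conj_eq.2 (eq_of_le_of_card_ge ?_ ?_))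
        · rintro _ ⟨u, hu, rfl⟩; exact hcon u hu
        · rw [card_map_of_injective (MulAut.conj g).injective]
      set a1 := g * v0 * g⁻¹ with ha1
      have ha1T : a1 ∈ M.T := (mem_normalizer_iff.1 hgN v0).1 (hVle hv0)
      have ha1sq : a1 * a1 = 1 := by
        rw [ha1, show g * v0 * g⁻¹ * (g * v0 * g⁻¹) = g * (v0 * v0) * g⁻¹ by group,
          (hVprop v0 hv0).1, mul_one, mul_inv_cancel]
      have ha1D : a1 ∉ M.D := fun h => hv0g ((hout a haT haD hao).omega a1 h ha1sq)
      have ha1o : orderOf a1 = 2 := orderOf_two_of_sq_one ha1sq fun e => ha1D (e ▸ one_mem _)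
      have O := hout a1 ha1T ha1D ha1o
      obtain ⟨v, hv, hv1, hav, hvu⟩ := hfix a1 ha1T ha1D ha1o
      -- commutators of `D` with `a1`
      have hcomm : ∀ d ∈ M.D, d * a1 * d⁻¹ * a1⁻¹ = 1 ∨ d * a1 * d⁻¹ * a1⁻¹ = v := by
        intro d hd
        set z := d * a1 * d⁻¹ * a1⁻¹ with hz
        have hzD : z ∈ M.D := by
          rw [hz, show d * a1 * d⁻¹ * a1⁻¹ = d * (a1 * d⁻¹ * a1⁻¹) by group]
          exact mul_mem hd ((mem_normalizer_iff.1 (hTN ha1T) _).1 (inv_mem hd))
        have hdT : g⁻¹ * d * g ∈ M.T := (mem_normalizer_iff''.1 hgN d).1 (M.D_le_T hd)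
        set u := (g⁻¹ * d * g) * v0 * (g⁻¹ * d * g)⁻¹ with hu
        have huV : u ∈ V := (mem_normalizer_iff.1 (hTVn _ hdT) v0).1 hv0
        have hu' : d * a1 * d⁻¹ = g * u * g⁻¹ := by rw [hu, ha1]; group
        have hzu : z = g * (u * v0⁻¹) * g⁻¹ := by rw [hz, hu', ha1]; group
        have hz2 : z * z = 1 := by
          rw [hzu, show ∀ k : G, g * k * g⁻¹ * (g * k * g⁻¹) = g * (k * k) * g⁻¹ from fun k => by group,
            (hVprop _ (mul_mem huV (inv_mem hv0))).1, mul_one, mul_inv_cancel]
        have hza : Commute a1 z := by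
          rw [hzu, ha1]
          show g * v0 * g⁻¹ * (g * (u * v0⁻¹) * g⁻¹) = g * (u * v0⁻¹) * g⁻¹ * (g * v0 * g⁻¹)
          calc g * v0 * g⁻¹ * (g * (u * v0⁻¹) * g⁻¹) = g * (v0 * (u * v0⁻¹)) * g⁻¹ := by group
            _ = g * ((u * v0⁻¹) * v0) * g⁻¹ := by rw [hVcomm v0 hv0 _ (mul_mem huV (inv_mem hv0))]
            _ = _ := by group
        exact hvu z hzD hza hz2
      set C := M.D ⊓ centralizer ({a1} : Set G) with hC
      have hle : Nat.card M.D ≤ 2 * Nat.card C := by
        by_cases hall : ∀ d ∈ M.D, d * a1 * d⁻¹ * a1⁻¹ = 1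
        · refine card_le_two_mul 1 fun d hd => Or.inl ⟨hd, mem_centralizer_singleton_iff.2 ?_⟩
          exact mul_inv_eq_iff_eq_mul.1 (mul_inv_eq_one.1 (hall d hd))
        push Not at hall
        obtain ⟨d0, hd0, hd0a⟩ := hall
        refine card_le_two_mul d0⁻¹ fun d hd => ?_
        rcases hcomm d hd with h | h
        · exact Or.inl ⟨hd, mem_centralizer_singleton_iff.2
            (mul_inv_eq_iff_eq_mul.1 (mul_inv_eq_one.1 h))⟩
        · refine Or.inr (Subgroup.mem_inf.2 ⟨mul_mem (inv_mem hd0) hd, mem_centralizer_singleton_iff.2 ?_⟩)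
          have h0 : d0 * a1 * d0⁻¹ = d * a1 * d⁻¹ :=
            mul_right_cancel (((hcomm d0 hd0).resolve_left hd0a).trans h.symm)
          calc d0⁻¹ * d * a1 = d0⁻¹ * (d * a1 * d⁻¹) * d := by group
            _ = d0⁻¹ * (d0 * a1 * d0⁻¹) * d := by rw [h0]
            _ = a1 * (d0⁻¹ * d) := by group
      have hsq := O.sq_card_le
      rw [← hC] at hsq
      have hC2 : Nat.card C ≤ 2 := Nat.le_of_mul_le_mul_right (hsq.trans hle) Nat.card_pos
      exact (eq_of_le_of_card_ge hVD (by omega)).symm
  obtain ⟨y, hyN, hy3, hay, hyf⟩ := (hout a haT haD hao).exists_y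
  refine ⟨M.R₁, V, hVle.trans inf_le_left, hV4, fun v hv => (hVprop v hv).1, ?_, ?_⟩
  · refine le_antisymm ?_ fun v hv => mem_centralizer_iff.2 fun w hw => hVcomm w hw v hv
    obtain ⟨L, hLK⟩ := M.exists_local hg hls
    obtain ⟨v, hv, hv1, -⟩ := hfix a haT haD hao
    have h2 : IsPGroup 2 (centralizer (V : Set G)) :=
      (hg.isPGroup_centralizer Nat.prime_two (orderOf_two_of_sq_one (hVprop v hv).1 hv1)).to_le
        (centralizer_le (Set.singleton_subset_iff.2 hv))
    have hle : centralizer (V : Set G) ≤ M.N := by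
      intro c hc
      show c ∈ normalizer (M.D : Set G)
      refine mem_normalizer_iff.2 fun u => ?_
      rw [hDV]
      constructor
      · intro hu
        rw [← mem_centralizer_iff.1 hc u hu, mul_inv_cancel_right]; exact hu
      · intro hu
        have := mem_centralizer_iff.1 hc _ hu
        rw [show u = c⁻¹ * (c * u * c⁻¹ * c) by group, this, inv_mul_cancel_left]
        exact hu
    refine (L.le_K _ h2 hle y hyN (hy3.symm ▸ Nat.prime_three) (by rw [hy3]; norm_num) ?_).trans
      (hLK.trans hDV).le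
    refine mem_normalizer_iff.2 fun c => ?_
    simp only [mem_centralizer_iff]
    constructor
    · intro hc u hu
      have := hc _ ((mem_normalizer_iff''.1 (hVN hyN) u).1 hu)
      calc u * (y * c * y⁻¹) = y * ((y⁻¹ * u * y) * c) * y⁻¹ := by group
        _ = y * (c * (y⁻¹ * u * y)) * y⁻¹ := by rw [this]
        _ = y * c * y⁻¹ * u := by group
    · intro hc u hu
      have := hc _ ((mem_normalizer_iff.1 (hVN hyN) u).1 hu)
      calc u * c = y⁻¹ * ((y * u * y⁻¹) * (y * c * y⁻¹)) * y := by group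
        _ = y⁻¹ * ((y * c * y⁻¹) * (y * u * y⁻¹)) * y := by rw [this]
        _ = c * u := by group
  · have hlt : V < M.T := lt_of_le_not_ge hVle fun h => haD (hVD (h haT))
    have h1 : Nat.card V < Nat.card M.T :=
      lt_of_le_of_ne (card_le_of_le hlt.le) fun e => hlt.ne (eq_of_le_of_card_ge hlt.le e.ge)
    have h2 : Nat.card M.T ≤ Nat.card (M.R₁ : Subgroup G) := card_le_of_le inf_le_left
    obtain ⟨k, hk⟩ := IsPGroup.iff_card.1 M.R₁.2
    have hk3 : 3 ≤ k := by
      by_contra hk3
      have : 2 ^ k ≤ 2 ^ 2 := Nat.pow_le_pow_right two_pos (by omega)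
      omega
    calc 8 = 2 ^ 3 := rfl
      _ ≤ 2 ^ k := Nat.pow_le_pow_right two_pos hk3
      _ = _ := hk.symm

end MaxPair

end CfsgLib.EPPOSeven
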