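import Cfsg.Agent.EPPOSeven.Strong
import Cfsg.Agent.EPPOSeven.Dihedral
import Cfsg.Agent.S2475
import Cfsg.Agent.S0205
import Cfsg.Agent.Linear.Basic
import Cfsg.Agent.Linear.Perfect
import Cfsg.Agent.Small.Order168

/-!
# Groups whose element orders are powers of two or primes other than five

The nonsolvable ones are `PSL₂(7)`.
-/

set_option autoImplicit false
set_option linter.style.haveILetI false
set_option linter.unusedSectionVars false

namespace CfsgLib.EPPOSeven

open Subgroup

universe u v

/-- Extensions of solvable groups are solvable. -/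
theorem isSolvable_of_quotient {G : Type u} [Group G] (N : Subgroup G) [N.Normal]
    (hN : Group.IsSolvable N) (hQ : Group.IsSolvable (G ⧸ N)) : Group.IsSolvable G :=
  Group.isSolvable_of_ker_le_range N.subtype (QuotientGroup.mk' N)
    (by rw [QuotientGroup.ker_mk', range_subtype])

/-- Powers of three that are next to a power of two. -/
theorem three_pow_eq {a M : ℕ} (h : 3 ^ a = 2 ^ M + 1) : 3 ^ a ≤ 9 := by
  rcases Nat.lt_or_ge M 4 with hM | hM
  · interval_cases M <;> omega
  · exfalso
    have h16 : (2 : ℕ) ^ 4 ∣ 2 ^ M := pow_dvd_pow 2 hM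
    -- `3 ^ a ≡ 1 (mod 16)` forces `a` to be a multiple of four
    have hmod : 3 ^ a % 16 = 1 := by
      obtain ⟨c, hc⟩ := h16
      omega
    have ha4 : a % 4 = 0 := by
      rw [← Nat.div_add_mod a 4, pow_add, pow_mul, Nat.mul_mod, Nat.pow_mod] at hmod
      norm_num at hmod
      have := Nat.mod_lt a (show 4 > 0 by norm_num)
      interval_cases hr : a % 4 <;> omega
    -- then five divides `3 ^ a - 1 = 2 ^ M`
    have h5 : 3 ^ a % 5 = 1 := by
      rw [← Nat.div_add_mod a 4, ha4, add_zero, pow_mul, Nat.pow_mod]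
      norm_num
    have : 5 ∣ 2 ^ M := by omega
    have := (by norm_num : Nat.Prime 5).dvd_of_dvd_pow this
    norm_num at this

/-- `PSL(2, F)` satisfying the hypothesis and simple has a field of order seven. -/
theorem card_eq_seven {G : Type u} [Group G] [Finite G] [IsSimpleGroup G]
    (hna : ¬ IsMulCommutative G) (hg : Good G) {F : Type v} [Field F] [Fintype F]
    (e : G ≃* Matrix.ProjectiveSpecialLinearGroup (Fin 2) F) : Fintype.card F = 7 := by
  classical
  have hP := hg.of_equiv e
  set q := Fintype.card F with hq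
  have hq1 : 1 < q := Fintype.one_lt_card
  have hG : Nat.card G = Nat.card (Matrix.ProjectiveSpecialLinearGroup (Fin 2) F) :=
    Nat.card_congr e.toEquiv
  -- small fields
  have h4 : 4 ≤ q := by
    by_contra h4
    rcases (show q = 2 ∨ q = 3 by omega) with h2 | h3
    · have h := CfsgLib.Linear.card_PSL_two_even (F := F) (by rw [← hq, h2]; decide)
      rw [← hq, h2, ← hG] at h
      norm_num at h
      haveI : Fact (Nat.Prime 3) := ⟨Nat.prime_three⟩
      obtain ⟨P⟩ : Nonempty (Sylow 3 G) := inferInstance
      refine no_index_two hna (P : Subgroup G) ?_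
      have hP3 : Nat.card (P : Subgroup G) = 3 := by
        rw [P.card_eq_multiplicity, h, show 6 = 2 ^ 1 * 3 ^ 1 by norm_num,
          Nat.factorization_mul (by norm_num) (by norm_num), Finsupp.add_apply,
          Nat.prime_two.factorization_pow, Nat.prime_three.factorization_pow,
          Finsupp.single_eq_same, Finsupp.single_eq_of_ne (by norm_num)]
        norm_num
      have := card_mul_index (P : Subgroup G)
      rw [hP3, h] at this
      omega
    · have h := CfsgLib.Linear.card_PSL_two_odd (F := F) (by rw [← hq, h3]; decide)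
      rw [← hq, h3, ← hG] at h
      norm_num at h
      haveI : Fact (Nat.Prime 2) := ⟨Nat.prime_two⟩
      exact CfsgLib.Classification.DihedralBSW.card_ne_twelve (Classical.arbitrary (Sylow 2 G)) hna
        (by omega)
  obtain ⟨p, hp⟩ := CharP.exists F
  obtain ⟨a, hpp, hpa⟩ := FiniteField.card F p
  haveI := Fact.mk hpp
  haveI := hp
  have hset := Cfsg.Agent.S2475.result (F := F) p h4
  have horder : ∀ m : ℕ, 1 < m → (m ∣ p ∨ m ∣ (q - 1) / Nat.gcd 2 (q - 1) ∨
      m ∣ (q + 1) / Nat.gcd 2 (q - 1)) → (∃ k, m = 2 ^ k) ∨ (m.Prime ∧ m ≠ 5) := by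
    intro m hm h
    obtain ⟨x, hx⟩ : m ∈ Set.range (orderOf : Matrix.ProjectiveSpecialLinearGroup (Fin 2) F → ℕ) := by
      rw [hset]; exact h
    subst hx
    exact hP x fun e => by rw [e, orderOf_one] at hm; omega
  have hodd_prime : ∀ m : ℕ, 1 < m → Odd m → (m ∣ (q - 1) / Nat.gcd 2 (q - 1) ∨
      m ∣ (q + 1) / Nat.gcd 2 (q - 1)) → m.Prime ∧ m ≠ 5 := by
    intro m hm hmo h
    refine (horder m hm (Or.inr h)).resolve_left ?_
    rintro ⟨k, rfl⟩
    rcases Nat.eq_zero_or_pos k with rfl | hk
    · simp at hm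
    · exact Nat.not_odd_iff_even.2 ((Nat.even_pow' hk.ne').2 even_two) hmo
  have ha : q = p ^ (a : ℕ) := hpa
  rcases hpp.eq_two_or_odd' with rfl | hpodd
  · exfalso
    have hqe : 2 ∣ q := ha ▸ dvd_pow_self 2 a.ne_zero
    have hg1 : Nat.gcd 2 (q - 1) = 1 := (Nat.prime_two.coprime_iff_not_dvd.2 (by omega))
    rw [hg1, Nat.div_one, Nat.div_one] at hodd_prime
    obtain ⟨h1, h15⟩ := hodd_prime (q - 1) (by omega) (Nat.odd_iff.2 (by omega)) (Or.inl dvd_rfl)
    obtain ⟨h2, h25⟩ := hodd_prime (q + 1) (by omega) (Nat.odd_iff.2 (by omega)) (Or.inr dvd_rfl)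
    have h3 : q % 3 ≠ 0 := by
      intro h
      have := Nat.prime_three.dvd_of_dvd_pow (ha ▸ (Nat.dvd_of_mod_eq_zero h))
      norm_num at this
    rcases (show q % 3 = 1 ∨ q % 3 = 2 by omega) with h | h
    · have := (Nat.prime_dvd_prime_iff_eq Nat.prime_three h1).1 (Nat.dvd_of_mod_eq_zero (by omega))
      omega
    · have := (Nat.prime_dvd_prime_iff_eq Nat.prime_three h2).1 (Nat.dvd_of_mod_eq_zero (by omega))
      omega
  · have hqo : Odd q := ha ▸ hpodd.pow
    obtain ⟨r, hr⟩ := hqo
    have hg2 : Nat.gcd 2 (q - 1) = 2 := Nat.gcd_eq_left (by omega)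
    rw [hg2] at hodd_prime horder
    have hA : (q - 1) / 2 = r := by omega
    have hB : (q + 1) / 2 = r + 1 := by omega
    rw [hA, hB] at hodd_prime horder
    have hp5 : p ≠ 5 := by
      rcases horder p hpp.one_lt (Or.inl dvd_rfl) with ⟨k, hk⟩ | ⟨-, h⟩
      · rintro rfl
        have := (by norm_num : Nat.Prime 5).dvd_of_dvd_pow hk.dvd
        norm_num at this
      · exact h
    rcases Nat.even_or_odd r with hre | hro
    · exfalso
      obtain ⟨h1, -⟩ := hodd_prime (r + 1) (by omega) hre.add_one (Or.inr dvd_rfl)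
      obtain ⟨M, hM⟩ : ∃ M, r = 2 ^ M := by
        rcases horder r (by omega) (Or.inr (Or.inl dvd_rfl)) with h | ⟨h, -⟩
        · exact h
        · exact ⟨1, by rw [pow_one]; exact h.even_iff.1 hre⟩
      rcases Nat.even_or_odd M with ⟨l, hl⟩ | ⟨l, hl⟩
      · -- `q ≡ 0 (mod 3)`
        have h3q : 3 ∣ q := by
          have : 2 ^ M % 3 = 1 := by
            rw [hl, ← two_mul, pow_mul, Nat.pow_mod]; norm_num
          omega
        have hp3 : p = 3 := ((Nat.prime_dvd_prime_iff_eq Nat.prime_three hpp).1
          (Nat.prime_three.dvd_of_dvd_pow (ha ▸ h3q))).symm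
        subst hp3
        have hq9 := three_pow_eq (a := a) (M := M + 1) (by rw [← ha, hr, pow_succ, hM]; ring)
        rw [← ha] at hq9
        obtain ⟨-, h5⟩ := hodd_prime (r + 1) (by omega) hre.add_one (Or.inr dvd_rfl)
        have : q = 9 := by
          rcases (show (a : ℕ) = 0 ∨ (a : ℕ) = 1 ∨ 2 ≤ (a : ℕ) by omega) with h | h | h
          · exact absurd h a.ne_zero
          · rw [h] at ha; omega
          · have : 3 ^ 2 ≤ 3 ^ (a : ℕ) := Nat.pow_le_pow_right (by norm_num) h
            omega
        omega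
      · have : 2 ^ M % 3 = 2 := by
          rw [hl, pow_succ, pow_mul, Nat.mul_mod, Nat.pow_mod]; norm_num
        have := (Nat.prime_dvd_prime_iff_eq Nat.prime_three h1).1 (by omega)
        -- `q = 5`
        have hq5 : q = 5 := by omega
        rw [hq5] at ha
        have := (Nat.prime_dvd_prime_iff_eq hpp (by norm_num : Nat.Prime 5)).1
          (ha ▸ dvd_pow_self p a.ne_zero)
        exact hp5 this
    · obtain ⟨h1, -⟩ := hodd_prime r (by
        rcases Nat.lt_or_ge 1 r with h | h
        · exact h
        · omega) hro (Or.inl dvd_rfl)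
      obtain ⟨M, hM⟩ : ∃ M, r + 1 = 2 ^ M := by
        rcases horder (r + 1) (by omega) (Or.inr (Or.inr dvd_rfl)) with h | ⟨h, -⟩
        · exact h
        · exact ⟨1, by rw [pow_one]; exact h.even_iff.1 hro.add_one⟩
      rcases Nat.even_or_odd M with ⟨l, hl⟩ | ⟨l, hl⟩
      · have : 2 ^ M % 3 = 1 := by
          rw [hl, ← two_mul, pow_mul, Nat.pow_mod]; norm_num
        have := (Nat.prime_dvd_prime_iff_eq Nat.prime_three h1).1 (by omega)
        omega
      · exfalso
        have h3q : 3 ∣ q := by
          have : 2 ^ M % 3 = 2 := by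
            rw [hl, pow_succ, pow_mul, Nat.mul_mod, Nat.pow_mod]; norm_num
          omega
        have hp3 : p = 3 := ((Nat.prime_dvd_prime_iff_eq Nat.prime_three hpp).1
          (Nat.prime_three.dvd_of_dvd_pow (ha ▸ h3q))).symm
        subst hp3
        -- `3 ^ a + 1` is not divisible by eight
        have h8 : (2 : ℕ) ^ 3 ∣ 2 ^ (M + 1) := by
          refine pow_dvd_pow 2 ?_
          by_contra h
          have hM1 : M = 1 := by omega
          rw [hM1] at hM
          omega
        have hq8 : q % 8 = 1 ∨ q % 8 = 3 := by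
          rw [ha, ← Nat.div_add_mod (a : ℕ) 2, pow_add, pow_mul, Nat.mul_mod, Nat.pow_mod]
          rcases Nat.mod_two_eq_zero_or_one (a : ℕ) with h | h <;> rw [h] <;> norm_num
        obtain ⟨c, hc⟩ := h8
        have : q + 1 = 2 ^ (M + 1) := by rw [pow_succ, ← hM]; omega
        omega

/-- A group with a simple normal subgroup of order 168, trivial solvable radical and the hypothesis
is that subgroup. -/
theorem eq_top_of_normal_168 {G : Type u} [Group G] [Finite G] (hg : Good G) (N : Subgroup G)
    [N.Normal] [IsSimpleGroup N] (h168 : Nat.card N = 168) : N = ⊤ := by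
  classical
  by_contra hNtop
  haveI : Fact (Nat.Prime 7) := ⟨by norm_num⟩
  haveI : Fact (Nat.Prime 3) := ⟨Nat.prime_three⟩
  have hC : centralizer (N : Set G) = ⊥ := by
    refine (eq_bot_iff_forall _).2 fun c hc => ?_
    obtain ⟨a, ha⟩ := exists_prime_orderOf_dvd_card' (G := N) 3 (by rw [h168]; norm_num)
    obtain ⟨b, hb⟩ := exists_prime_orderOf_dvd_card' (G := N) 7 (by rw [h168]; norm_num)
    rw [← Subgroup.orderOf_coe] at ha hb
    obtain ⟨i, hi⟩ := hg.orderOf_eq_pow_of_commute Nat.prime_three ha
      (show Commute c a from (mem_centralizer_iff.1 hc a a.2).symm)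
    obtain ⟨j, hj⟩ := hg.orderOf_eq_pow_of_commute (by norm_num : Nat.Prime 7) hb
      (show Commute c b from (mem_centralizer_iff.1 hc b b.2).symm)
    exact orderOf_eq_one_iff.1 (Nat.eq_one_of_dvd_coprimes (Nat.Coprime.pow i j (by norm_num)) hi.dvd hj.dvd)
  obtain ⟨P⟩ : Nonempty (Sylow 7 N) := inferInstance
  set P₀ := (P : Subgroup N).map N.subtype with hP₀
  set NP := normalizer ((P₀ : Subgroup G) : Set G) with hNP
  have hsup : NP ⊔ N = ⊤ := Sylow.normalizer_sup_eq_top P
  have hP₀7 : Nat.card P₀ = 7 := by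
    rw [hP₀, card_map_of_injective N.subtype_injective, CfsgLib.Small.Order168.card_P7 h168 P]
  have hcomap : NP.subgroupOf N = normalizer ((P : Subgroup N) : Set N) := by
    ext u
    rw [mem_subgroupOf, hNP, mem_normalizer_iff, mem_normalizer_iff]
    constructor
    · intro h w
      have h1 : N.subtype w ∈ P₀ ↔ N.subtype (u * w * u⁻¹) ∈ P₀ := h w
      rw [hP₀, mem_map_iff_mem N.subtype_injective, mem_map_iff_mem N.subtype_injective] at h1
      exact h1
    · intro h w
      constructor
      · rintro ⟨z, hz, rfl⟩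
        exact ⟨u * z * u⁻¹, (h z).1 hz, rfl⟩
      · rintro ⟨z, hz, hzw⟩
        refine ⟨u⁻¹ * z * u, ?_, ?_⟩
        · exact (h _).2 (by rwa [show u * (u⁻¹ * z * u) * u⁻¹ = z by group])
        · have hzw' : (z : G) = u * w * (u : G)⁻¹ := hzw
          show (u : G)⁻¹ * z * u = w
          rw [hzw']; group
  have hrel : NP.relIndex N = 8 := by
    have h := card_mul_index (NP.subgroupOf N)
    rw [hcomap, CfsgLib.Small.Order168.card_N7 h168 P, h168] at h
    show (NP.subgroupOf N).index = 8
    rw [hcomap]; omega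
  have hNPidx : N.relIndex NP = N.index := by
    rw [← relIndex_sup_right (K := N) (H := NP), hsup, relIndex_top_right]
  have hidx : NP.index = 8 := by
    have h21 : Nat.card (N.subgroupOf NP) = 21 := by
      rw [← card_map_of_injective NP.subtype_injective, subgroupOf_map_subtype, inf_comm,
        ← subgroupOf_map_subtype, card_map_of_injective N.subtype_injective, hcomap,
        CfsgLib.Small.Order168.card_N7 h168 P]
    have h1 := card_mul_index (N.subgroupOf NP)
    have h2 := card_mul_index NP
    have h3 := card_mul_index N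
    rw [show (N.subgroupOf NP).index = N.index from hNPidx, h21] at h1
    rw [← h1, ← h3, h168] at h2
    have h4 : 0 < N.index := Nat.pos_of_ne_zero index_ne_zero_of_finite
    have h5 : N.index * (21 * NP.index) = N.index * 168 := by rw [← mul_assoc, mul_comm N.index 21, h2, mul_comm]
    have := Nat.eq_of_mul_eq_mul_left h4 h5
    omega
  have hcore : NP.normalCore = ⊥ := by
    have hnN : NP.normalCore.subgroupOf N = ⊥ := by
      haveI : (NP.normalCore.subgroupOf N).Normal := Subgroup.normal_subgroupOf
      rcases (inferInstance : (NP.normalCore.subgroupOf N).Normal).eq_bot_or_eq_top with h | h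
      · exact h
      · exfalso
        have hle : N ≤ NP := (subgroupOf_eq_top.1 h).trans (normalCore_le _)
        rw [relIndex_eq_one.2 hle] at hrel
        norm_num at hrel
    have hdis : Disjoint NP.normalCore N := subgroupOf_eq_bot.1 hnN
    refine le_bot_iff.1 (hC ▸ fun c hc => mem_centralizer_iff.2 fun u hu => ?_)
    exact (commute_of_normal_of_disjoint _ _ (normalCore_normal NP) ‹_› hdis c u hc hu).eq.symm
  have hdvd : Nat.card G ∣ 40320 := by
    have hker : (MulAction.toPermHom G (G ⧸ NP)).ker = ⊥ := by rw [← normalCore_eq_ker, hcore]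
    have h := card_dvd_of_injective _ ((MonoidHom.ker_eq_bot_iff _).1 hker)
    rw [Nat.card_perm, ← index_eq_card, hidx] at h
    simpa [Nat.factorial] using h
  obtain ⟨q, hq, hqd⟩ := Nat.exists_prime_and_dvd (fun e => hNtop (index_eq_one.1 e) : N.index ≠ 1)
  haveI := Fact.mk hq
  have h240 : N.index ∣ 240 := by
    rw [← card_mul_index N, h168, show 40320 = 168 * 240 by norm_num] at hdvd
    exact Nat.dvd_of_mul_dvd_mul_left (by norm_num) hdvd
  have hq23 : q = 2 ∨ q = 3 := by
    have hq5 : q ≠ 5 := fun e => hg.not_five_dvd (e ▸ hqd.trans (N.index_dvd_card))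
    have h2 : q ∣ 2 ^ 4 * 3 * 5 := (hqd.trans h240).trans (by norm_num)
    rcases (Nat.Prime.dvd_mul hq).1 h2 with h | h
    · rcases (Nat.Prime.dvd_mul hq).1 h with h | h
      · exact Or.inl ((Nat.prime_dvd_prime_iff_eq hq Nat.prime_two).1 (hq.dvd_of_dvd_pow h))
      · exact Or.inr ((Nat.prime_dvd_prime_iff_eq hq Nat.prime_three).1 h)
    · exact absurd ((Nat.prime_dvd_prime_iff_eq hq (by norm_num)).1 h) hq5
  -- an element of order three of `N` in `NP`
  obtain ⟨y0, hy0⟩ := exists_prime_orderOf_dvd_card' (G := NP.subgroupOf N) 3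
    (by rw [hcomap, CfsgLib.Small.Order168.card_N7 h168 P]; norm_num)
  rw [← Subgroup.orderOf_coe, ← Subgroup.orderOf_coe] at hy0
  set y : G := ((y0 : N) : G) with hy
  have hyP : y ∈ NP := y0.2
  have hP₀p : IsPGroup 7 P₀ := P.2.map _
  have hne : P₀ ≠ ⊥ := fun e => by rw [e, card_bot] at hP₀7; omega
  rcases hq23 with rfl | rfl
  · -- the automorphisms induced on `P₀` contain one of order six
    obtain ⟨z, hz, hzo⟩ := CfsgLib.PrimeGraph.exists_orderOf_mem_normalizer_sylow (r := 7) hq N P hqd
    let ψ : NP →* MulAut P₀ :=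
      { toFun := fun g =>
          { toFun := fun w => ⟨g * w * (g : G)⁻¹, (mem_normalizer_iff.1 g.2 w).1 w.2⟩
            invFun := fun w => ⟨(g : G)⁻¹ * w * g, (mem_normalizer_iff''.1 g.2 w).1 w.2⟩
            left_inv := fun w => Subtype.ext (by simp [mul_assoc])
            right_inv := fun w => Subtype.ext (by simp [mul_assoc])
            map_mul' := fun u w => Subtype.ext (by simp [mul_assoc]) }
        map_one' := MulEquiv.ext fun w => Subtype.ext (by simp)
        map_mul' := fun g k => MulEquiv.ext fun w => Subtype.ext (by simp [mul_assoc]) }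
    haveI : IsCyclic P₀ := isCyclic_of_prime_card hP₀7
    have hψ : ∀ (g : G) (hgP : g ∈ NP) (r : ℕ), r.Prime → r ≠ 7 → orderOf g = r →
        orderOf (ψ ⟨g, hgP⟩) = r := by
      intro g hgP r hr hr7 hgo
      haveI := Fact.mk hr
      refine orderOf_eq_prime ?_ fun e => ?_
      · rw [← map_pow, show (⟨g, hgP⟩ : NP) ^ r = 1 from
          Subtype.ext (by rw [SubmonoidClass.coe_pow]; exact hgo ▸ pow_orderOf_eq_one g), map_one]
      · obtain ⟨⟨u, hu⟩, hu1⟩ := @exists_ne _ ((Subgroup.nontrivial_iff_ne_bot P₀).2 hne) 1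
        have h1 : g * u * g⁻¹ = u := congrArg Subtype.val (MulEquiv.congr_fun e ⟨u, hu⟩)
        exact hu1 (Subtype.ext (hg.eq_one_of_commute (by norm_num : Nat.Prime 7) hr hr7 hP₀p hgo hu
          (mul_inv_eq_iff_eq_mul.1 h1)))
    have hz2 := hψ z hz 2 Nat.prime_two (by norm_num) hzo
    have hy3 := hψ y hyP 3 Nat.prime_three (by norm_num) hy0
    have hcomm : Commute (ψ ⟨z, hz⟩) (ψ ⟨y, hyP⟩) := by
      apply (IsCyclic.mulAutMulEquiv P₀).injective
      rw [map_mul, map_mul, mul_comm]
    have h6 : orderOf (ψ (⟨z, hz⟩ * ⟨y, hyP⟩)) = 6 := by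
      rw [map_mul, hcomm.orderOf_mul_eq_mul_orderOf_of_coprime (by rw [hz2, hy3]; norm_num), hz2, hy3]
    have hd := orderOf_map_dvd ψ (⟨z, hz⟩ * ⟨y, hyP⟩)
    rw [h6, ← Subgroup.orderOf_coe] at hd
    have h3 := hg.orderOf_eq_of_dvd Nat.prime_three (by norm_num) ((Dvd.intro 2 rfl : (3 : ℕ) ∣ 6).trans hd)
    rw [h3] at hd
    norm_num at hd
  · -- a three-subgroup of order nine acting on `P₀`
    haveI : (P₀.subgroupOf NP).Normal := (normal_subgroupOf_iff_le_normalizer le_normalizer).2 le_rfl
    obtain ⟨S⟩ : Nonempty (Sylow 3 NP) := inferInstance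
    have hS : Nat.card (S : Subgroup NP) ≤ 3 :=
      (hg.subgroup NP).card_le_of_fpf (K := P₀.subgroupOf NP) (p := 7) (by norm_num)
        Nat.prime_three (by norm_num) (by norm_num) hP₀p.comap_subtype
        (fun e => hne (by
          rw [subgroupOf_eq_bot] at e
          exact disjoint_self.1 (e.mono_right le_normalizer))) S.2
    have h1 : 3 ∣ Nat.card (N.subgroupOf NP) := by
      have h : orderOf (⟨⟨y, hyP⟩, (y0 : N).2⟩ : N.subgroupOf NP) = 3 := by
        rw [← Subgroup.orderOf_coe, ← Subgroup.orderOf_coe]; exact hy0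
      exact h ▸ orderOf_dvd_natCard _
    have h2 : 3 ∣ (N.subgroupOf NP).index := by
      show 3 ∣ N.relIndex NP
      rw [hNPidx]; exact hqd
    have h9 : 3 ^ 2 ∣ Nat.card NP := by
      rw [← card_mul_index (N.subgroupOf NP), pow_two]
      exact mul_dvd_mul h1 h2
    have := Nat.le_of_dvd Nat.card_pos (S.pow_dvd_card_of_pow_dvd_card h9)
    omega

variable {F : Type v} [Field F] [Fintype F]

/-- A nonsolvable group satisfying the hypothesis is `PSL₂(7)`. -/
theorem nonempty_equiv_of_not_solvable (hF : Fintype.card F = 7) :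
    ∀ (n : ℕ) (G : Type u) [Group G] [Finite G], Nat.card G = n → Good G → ¬ Group.IsSolvable G →
      Nonempty (G ≃* Matrix.ProjectiveSpecialLinearGroup (Fin 2) F) := by
  intro n
  induction n using Nat.strong_induction_on with
  | _ n ih =>
  intro G _ _ hn hg hns
  classical
  haveI : Fact (Nat.Prime 2) := ⟨Nat.prime_two⟩
  haveI : Fact (Nat.Prime 7) := ⟨by norm_num⟩
  haveI hsimpF : IsSimpleGroup (Matrix.ProjectiveSpecialLinearGroup (Fin 2) F) :=
    CfsgLib.Linear.isSimpleGroup_PSL_of 2 le_rfl fun _ => by omega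
  have hcardF : Nat.card (Matrix.ProjectiveSpecialLinearGroup (Fin 2) F) = 168 := by
    have := CfsgLib.Linear.card_PSL_two_odd (F := F) (by rw [hF]; decide)
    rw [hF] at this
    omega
  haveI : Nontrivial G := not_subsingleton_iff_nontrivial.1 fun _ => hns inferInstance
  -- proper nonsolvable subgroups and quotients have order 168
  have hsub : ∀ H : Subgroup G, H ≠ ⊤ → ¬ Group.IsSolvable H →
      IsSimpleGroup H ∧ Nat.card H = 168 := by
    intro H hH hHs
    have hlt : Nat.card H < n := by
      rw [← hn]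
      refine lt_of_le_of_ne H.card_le_card_group fun e => hH ?_
      exact eq_top_of_card_eq H e
    obtain ⟨e⟩ := ih _ hlt H rfl (hg.subgroup H) hHs
    exact ⟨e.symm.isSimpleGroup_congr.1 hsimpF, by rw [Nat.card_congr e.toEquiv, hcardF]⟩
  -- the solvable radical is trivial: a minimal abelian normal subgroup leads to a contradiction
  have hrad : ∀ V : Subgroup G, V.Normal → V ≠ ⊥ → ¬ Group.IsSolvable V → IsSimpleGroup V ∧
      Nat.card V = 168 ∨ V = ⊤ := fun V _ _ hVs => by
    by_cases h : V = ⊤
    · exact Or.inr h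
    · exact Or.inl (hsub V h hVs)
  have hns' : ∀ V : Subgroup G, V.Normal → Group.IsSolvable V → V = ⊥ := by
    intro W hW hWs
    by_contra hW1
    haveI : Nontrivial W := (Subgroup.nontrivial_iff_ne_bot W).2 hW1
    -- an element of prime order in a normal abelian subgroup
    obtain ⟨V, hVn, hV1, hVc, hVp⟩ : ∃ V : Subgroup G, V.Normal ∧ V ≠ ⊥ ∧
        (∀ a ∈ V, ∀ b ∈ V, a * b = b * a) ∧ ∃ p : ℕ, p.Prime ∧ IsPGroup p V := by
      -- the last nontrivial derived subgroup of `W`
      obtain ⟨m, hm⟩ := hWs
      have hex : ∃ j, derivedSeries W j = ⊥ := ⟨m, hm⟩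
      set j := Nat.find hex with hj
      have hj0 : j ≠ 0 := fun e => by
        have := Nat.find_spec hex
        rw [← hj, e, derivedSeries_zero] at this
        exact top_ne_bot this
      set A := (derivedSeries W (j - 1)).map W.subtype with hA
      have hAne : A ≠ ⊥ := fun e => Nat.find_min hex (show j - 1 < j by omega)
        ((Subgroup.map_eq_bot_iff_of_injective _ W.subtype_injective).1 e)
      haveI : A.Normal := by
        haveI : (derivedSeries W (j - 1)).Characteristic := derivedSeries_characteristic W (j - 1)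
        exact ConjAct.normal_of_characteristic_of_normal
      have hAc : ∀ a ∈ A, ∀ b ∈ A, a * b = b * a := by
        rintro _ ⟨a, ha, rfl⟩ _ ⟨b, hb, rfl⟩
        have h0 := Nat.find_spec hex
        rw [← hj, show j = j - 1 + 1 by omega, derivedSeries_succ,
          commutator_eq_bot_iff_le_centralizer] at h0
        exact congrArg W.subtype (mem_centralizer_iff.1 (h0 hb) a ha)
      -- its Sylow subgroup is normal in `G`
      have hA1 : Nat.card A ≠ 1 := fun e => hAne (card_eq_one.1 e)
      obtain ⟨p, hp, hpA⟩ := Nat.exists_prime_and_dvd hA1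
      haveI := Fact.mk hp
      let V : Subgroup G :=
        { carrier := {v | v ∈ A ∧ v ^ p = 1}
          one_mem' := ⟨one_mem _, one_pow _⟩
          mul_mem' := fun {a b} ha hb => ⟨mul_mem ha.1 hb.1, by
            rw [(show Commute a b from hAc a ha.1 b hb.1).mul_pow, ha.2, hb.2, one_mul]⟩
          inv_mem' := fun {a} ha => ⟨inv_mem ha.1, by rw [inv_pow, ha.2, inv_one]⟩ }
      refine ⟨V, ⟨fun v hv g => ⟨(inferInstance : A.Normal).conj_mem v hv.1 g, by
        rw [conj_pow, hv.2, mul_one, mul_inv_cancel]⟩⟩, fun e => ?_,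
        fun a ha b hb => hAc a ha.1 b hb.1, p, hp, fun v => ⟨1, Subtype.ext (by simpa using v.2.2)⟩⟩
      obtain ⟨x, hx⟩ := exists_prime_orderOf_dvd_card' (G := A) p hpA
      have hxV : (x : G) ∈ V := ⟨x.2, by
        rw [← hx, ← Subgroup.orderOf_coe, pow_orderOf_eq_one]⟩
      rw [e, mem_bot, OneMemClass.coe_eq_one] at hxV
      rw [hxV, orderOf_one] at hx
      exact hp.one_lt.ne hx
    obtain ⟨p, hp, hVp⟩ := hVp
    haveI := Fact.mk hp
    haveI := hVn
    set C := centralizer (V : Set G) with hC
    obtain ⟨⟨v0, hv0⟩, hv0ne⟩ := @exists_ne _ ((Subgroup.nontrivial_iff_ne_bot V).2 hV1) 1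
    have hv01 : v0 ≠ 1 := fun e => hv0ne (Subtype.ext e)
    have hCp : IsPGroup p C := by
      refine IsPGroup.iff_orderOf.2 fun c => ?_
      obtain ⟨k, hk⟩ := hg.orderOf_eq_pow_of_commute_mem hp hVp hv0 hv01
        (show Commute (c : G) v0 from (mem_centralizer_iff.1 c.2 v0 hv0).symm)
      exact ⟨k, by rw [← Subgroup.orderOf_coe]; exact hk⟩
    have heven : 2 ∣ Nat.card G := by
      by_contra h
      exact hns (Cfsg.Agent.S0205.result (Nat.odd_iff.2 (by omega)))
    haveI : C.Normal := Subgroup.normal_centralizer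
    haveI hCs : Group.IsSolvable C := CfsgLib.PrimeGraph.isSolvable_of_isPGroup hp hCp
    haveI hVs : Group.IsSolvable V := CfsgLib.PrimeGraph.isSolvable_of_isPGroup hp hVp
    by_cases hp2 : p = 2
    · -- the quotient would be `PSL₂(7)`, and a Frobenius group of order 21 acts on `V`
      subst hp2
      have hqs : ¬ Group.IsSolvable (G ⧸ V) := fun h =>
        hns (isSolvable_of_quotient V hVs h)
      have hlt : Nat.card (G ⧸ V) < n := by
        rw [← hn, ← V.card_mul_index, ← Subgroup.index_eq_card]
        refine lt_mul_of_one_lt_left (Nat.pos_of_ne_zero index_ne_zero_of_finite) ?_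
        exact Finite.one_lt_card_iff_nontrivial.2 ((Subgroup.nontrivial_iff_ne_bot V).2 hV1)
      obtain ⟨e⟩ := ih _ hlt (G ⧸ V) rfl (hg.quotient V) hqs
      haveI : IsSimpleGroup (G ⧸ V) := e.symm.isSimpleGroup_congr.1 hsimpF
      have hQ : Nat.card (G ⧸ V) = 168 := by rw [Nat.card_congr e.toEquiv, hcardF]
      obtain ⟨P⟩ : Nonempty (Sylow 7 G) := inferInstance
      let f := QuotientGroup.mk' V
      have hf : Function.Surjective f := QuotientGroup.mk'_surjective V
      let P' : Sylow 7 (G ⧸ V) := P.mapSurjective hf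
      -- an element of order three normalising `P`
      set M := ((P : Subgroup G).map f).comap f with hM
      have hMn : normalizer (M : Set G) =
          (normalizer ((P' : Subgroup (G ⧸ V)) : Set (G ⧸ V))).comap f := by
        rw [hM, comap_normalizer_eq_of_surjective _ hf]
        rfl
      have hPM : (P : Subgroup G) ≤ M := fun u hu => ⟨u, hu, rfl⟩
      have hVM : V ≤ M := fun u hu => mem_comap.2 (by
        rw [show f u = 1 from (QuotientGroup.eq_one_iff u).2 hu]; exact one_mem _)
      have hN21 := CfsgLib.Small.Order168.card_N7 hQ P'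
      have h3N : 3 ∣ Nat.card (normalizer ((P : Subgroup G) : Set G)) := by
        -- Frattini argument inside the normaliser of `M`
        let φ : normalizer ((P : Subgroup G) : Set G) →*
            normalizer ((P' : Subgroup (G ⧸ V)) : Set (G ⧸ V)) :=
          { toFun := fun u => ⟨f u, by
              refine mem_normalizer_iff.2 fun w => ?_
              obtain ⟨w, rfl⟩ := hf w
              constructor
              · rintro ⟨z, hz, hzw⟩
                exact ⟨u * z * (u : G)⁻¹, (mem_normalizer_iff.1 u.2 z).1 hz, by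
                  rw [map_mul, map_mul, map_inv, hzw]⟩
              · rintro ⟨z, hz, hzw⟩
                exact ⟨(u : G)⁻¹ * z * u, (mem_normalizer_iff''.1 u.2 z).1 hz, by
                  rw [map_mul, map_mul, map_inv, hzw]; group⟩⟩
            map_one' := Subtype.ext (map_one f)
            map_mul' := fun u w => Subtype.ext (map_mul f _ _) }
        have hφ : Function.Surjective φ := by
          rintro ⟨w, hw⟩
          obtain ⟨g, rfl⟩ := hf w
          have hgM : g ∈ normalizer (M : Set G) := by rw [hMn]; exact hw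
          -- `g P g⁻¹` and `P` are Sylow subgroups of `M`
          have hle : ((g • P : Sylow 7 G) : Subgroup G) ≤ M := by
            rw [Sylow.coe_subgroup_smul]
            rintro _ ⟨z, hz, rfl⟩
            exact (mem_normalizer_iff.1 hgM z).1 (hPM hz)
          obtain ⟨m, hm⟩ := MulAction.exists_smul_eq M ((g • P).subtype hle) (P.subtype hPM)
          rw [Sylow.smul_subtype] at hm
          have hmg : ((m : G) * g) • P = P := by
            rw [mul_smul]; exact Sylow.subtype_injective hm
          obtain ⟨p0, hp0, hp0m⟩ := mem_comap.1 m.2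
          refine ⟨⟨p0⁻¹ * ((m : G) * g), mul_mem (inv_mem (le_normalizer hp0))
            (Sylow.smul_eq_iff_mem_normalizer.1 hmg)⟩, Subtype.ext ?_⟩
          show f (p0⁻¹ * ((m : G) * g)) = f g
          rw [map_mul, map_mul, map_inv, hp0m, inv_mul_cancel_left]
        have := Subgroup.card_dvd_of_surjective φ hφ
        rw [hN21] at this
        exact (dvd_mul_left 3 7).trans this
      haveI : Fact (Nat.Prime 3) := ⟨Nat.prime_three⟩
      obtain ⟨x, hx⟩ := exists_prime_orderOf_dvd_card' 3 h3N
      rw [← Subgroup.orderOf_coe] at hx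
      have h7 : 7 ∣ Nat.card G := by
        rw [← V.card_mul_index, ← show Nat.card (G ⧸ V) = V.index from (Subgroup.index_eq_card V).symm, hQ]
        exact Dvd.dvd.mul_left (by norm_num) _
      have hPne : (P : Subgroup G) ≠ ⊥ := fun e => by
        have := P.dvd_card_of_dvd_card h7
        rw [e, card_bot] at this
        norm_num at this
      obtain ⟨⟨a, haP⟩, hane⟩ := @exists_ne _ ((Subgroup.nontrivial_iff_ne_bot _).2 hPne) 1
      have ha1 : a ≠ 1 := fun e => hane (Subtype.ext e)
      have hao : orderOf a = 7 := orderOf_eq_prime (hg.pow_eq_one (by norm_num) (by norm_num) P.2 haP) ha1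
      have hPcyc : (P : Subgroup G) = zpowers a := by
        refine (eq_of_le_of_card_ge (zpowers_le.2 haP) ?_).symm
        rw [Nat.card_zpowers, hao]
        exact hg.card_le_of_fpf Nat.prime_two (by norm_num) (by norm_num) (by norm_num) hVp hV1 P.2
      have hxa : (x : G) ∈ normalizer ((zpowers a : Subgroup G) : Set G) := hPcyc ▸ x.2
      have hne : ¬ Commute (x : G) a := fun hc =>
        hg.false_of_commute Nat.prime_three (by norm_num) (by norm_num) hx hao hc
      exact hg.false_of_frobenius Nat.prime_two Nat.prime_three (by norm_num : Nat.Prime 7)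
        (by norm_num) (by norm_num) hVp hV1 hao hx
        (normalizer_eq_top (H := V) ▸ mem_top a) (normalizer_eq_top (H := V) ▸ mem_top (x : G)) hxa hne
    · -- involutions invert `V`, so their images in `G ⧸ C` coincide
      obtain ⟨t, ht⟩ := exists_prime_orderOf_dvd_card' (G := G) 2 heven
      have hinv : ∀ u : G, orderOf u = 2 → ∀ w ∈ V, u * w * u⁻¹ = w⁻¹ := by
        intro u hu w hw
        have huu : u * u = 1 := CfsgLib.Small.mul_self_of_orderOf_two hu
        have hui := CfsgLib.Small.inv_eq_self_of_orderOf_two hu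
        set r := w * (u * w * u⁻¹) with hr
        have hr' : u * w * u⁻¹ ∈ V := hVn.conj_mem w hw u
        have hrV : r ∈ V := mul_mem hw hr'
        have hc : Commute u r := by
          show u * r = r * u
          calc u * r = (u * w * u⁻¹) * (u * u) * w * u⁻¹ := by rw [hr]; group
            _ = (u * w * u⁻¹) * w * u := by rw [huu, mul_one, hui]
            _ = r * u := by rw [hr, hVc w hw _ hr']
        exact eq_inv_of_mul_eq_one_right (hg.eq_one_of_commute hp Nat.prime_two (Ne.symm hp2) hVp hu hrV hc)
      have hall : ∀ u : G, orderOf u = 2 → t * u ∈ C := by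
        intro u hu
        refine mem_centralizer_iff.2 fun w hw => ?_
        have h1 := hinv t ht w⁻¹ (inv_mem hw)
        have h2 := hinv u hu w hw
        rw [inv_inv] at h1
        symm
        refine mul_inv_eq_iff_eq_mul.1 ?_
        calc t * u * w * (t * u)⁻¹ = t * (u * w * u⁻¹) * t⁻¹ := by group
          _ = w := by rw [h2, h1]
      set f := QuotientGroup.mk' C
      have hcent : ∀ g : G, f g * f t = f t * f g := by
        intro g
        have hu : orderOf (g * t * g⁻¹) = 2 := by rw [CfsgLib.Small.orderOf_conj_eq, ht]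
        have h1 := (QuotientGroup.eq_one_iff (N := C) _).2 (hall _ hu)
        change f (t * (g * t * g⁻¹)) = 1 at h1
        have htt : f t * f t = 1 := by
          rw [← map_mul, CfsgLib.Small.mul_self_of_orderOf_two ht, map_one]
        rw [map_mul, map_mul, map_mul, map_inv] at h1
        calc f g * f t = (f t * f t) * (f g * f t * (f g)⁻¹) * f g := by rw [htt, one_mul, inv_mul_cancel_right]
          _ = f t * (f t * (f g * f t * (f g)⁻¹)) * f g := by simp only [mul_assoc]
          _ = f t * f g := by rw [h1, mul_one]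
      -- so the quotient is a two-group
      have hft : orderOf (f t) = 2 := by
        refine orderOf_eq_prime (by rw [← map_pow, ← ht, pow_orderOf_eq_one, map_one]) fun e => ?_
        obtain ⟨k, hk⟩ := IsPGroup.iff_orderOf.1 hCp ⟨t, (QuotientGroup.eq_one_iff t).1 e⟩
        rw [Subgroup.orderOf_mk, ht] at hk
        exact hp2 ((Nat.prime_dvd_prime_iff_eq Nat.prime_two hp).1
          (Nat.prime_two.dvd_of_dvd_pow hk.dvd)).symm
      have h2 : IsPGroup 2 (G ⧸ C) := by
        refine IsPGroup.iff_orderOf.2 fun z => ?_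
        obtain ⟨g, rfl⟩ := QuotientGroup.mk'_surjective C z
        obtain ⟨k, hk⟩ := (hg.quotient C).orderOf_eq_pow_of_commute Nat.prime_two hft (hcent g)
        exact ⟨k, hk⟩
      exact hns (isSolvable_of_quotient C hCs (CfsgLib.PrimeGraph.isSolvable_of_isPGroup Nat.prime_two h2))
  -- minimal normal subgroups
  by_cases hsimple : ∀ N : Subgroup G, N.Normal → N = ⊥ ∨ N = ⊤
  · haveI : IsSimpleGroup G := ⟨fun N hN => hsimple N hN⟩
    have hna : ¬ IsMulCommutative G := fun h => hns (by
      letI : CommGroup G := { ‹Group G› with mul_comm := fun a b => h.is_comm.comm a b }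
      infer_instance)
    have hls : LocalsSolvable G := by
      intro V hV1 hV2
      by_contra hVs
      by_cases htop : normalizer (V : Set G) = ⊤
      · haveI := normalizer_eq_top_iff.1 htop
        refine hV1 (hns' V inferInstance ?_)
        exact CfsgLib.PrimeGraph.isSolvable_of_isPGroup Nat.prime_two hV2
      · obtain ⟨hsN, -⟩ := hsub _ htop hVs
        haveI := hsN
        haveI : (V.subgroupOf (normalizer (V : Set G))).Normal := inferInstance
        rcases (inferInstance : (V.subgroupOf (normalizer (V : Set G))).Normal).eq_bot_or_eq_top with h | h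
        · rw [subgroupOf_eq_bot] at h
          exact hV1 (disjoint_self.1 (h.mono_right le_normalizer))
        · exact hVs (CfsgLib.PrimeGraph.isSolvable_of_isPGroup Nat.prime_two
            (hV2.to_le (subgroupOf_eq_top.1 h)))
    have heven : 2 ∣ Nat.card G := by
      by_contra h
      exact hns (Cfsg.Agent.S0205.result (Nat.odd_iff.2 (by omega)))
    have hres : ∃ (K : Type) (_ : Field K) (_ : Fintype K),
        Nonempty (G ≃* Matrix.ProjectiveSpecialLinearGroup (Fin 2) K) := by
      by_cases hno : ∀ S₁ S₂ : Sylow 2 G, (S₁ : Subgroup G) ⊓ S₂ ≠ ⊥ →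
          JT (S₁ : Subgroup G) = JT (S₂ : Subgroup G)
      · rcases psl_or_suzuki hg hls heven hno hna with h | ⟨-, m, -, hm⟩
        · exact h
        · exfalso
          refine hg.not_five_dvd ?_
          rw [hm]
          refine Dvd.dvd.mul_right (Dvd.dvd.mul_left ?_ _) _
          refine Nat.dvd_of_mod_eq_zero ?_
          rw [Nat.add_mod, ← pow_mul, show (2 * m + 1) * 2 = 4 * m + 2 by ring, pow_add, pow_mul,
            Nat.mul_mod, Nat.pow_mod]
          norm_num
      · push Not at hno
        obtain ⟨S₁, S₂, h1, h2⟩ := hno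
        obtain ⟨M⟩ := exists_maxPair h1 h2
        obtain ⟨S, V, hVS, hV4, hV2, hVc, hS8⟩ := MaxPair.exists_four hg hls M hna
        obtain ⟨K, fK, tK, -, h⟩ := psl_of_four hg hna S V hVS hV4 hV2 hVc hS8
        exact ⟨K, fK, tK, h⟩
    obtain ⟨K, fK, tK, ⟨e⟩⟩ := hres
    have h7 := card_eq_seven hna hg e
    exact ⟨e.trans (CfsgLib.Linear.pslFieldCongr (h7.trans hF.symm))⟩
  · push Not at hsimple
    obtain ⟨N, hN, hN1, hNtop⟩ := hsimple
    exfalso
    haveI := hN
    have hNs : ¬ Group.IsSolvable N := fun h => hN1 (hns' N hN h)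
    obtain ⟨hNsimp, hN168⟩ := hsub N hNtop hNs
    haveI := hNsimp
    exact hNtop (eq_top_of_normal_168 hg N hN168)

end CfsgLib.EPPOSeven
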