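import Cfsg.Agent.EPPOSeven.Local
import Cfsg.Agent.PLocal.Thompson

/-!
# Two Sylow two-subgroups with a common involution and different Thompson subgroups

In a simple group all of whose two-locals are solvable, such a pair gives a self-centralising
four group.
-/

set_option autoImplicit false
set_option linter.style.haveILetI false
set_option linter.unusedSectionVars false

namespace CfsgLib.EPPOSeven

open Subgroup

variable {G : Type*} [Group G] [Finite G]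

/-- All normalisers of nontrivial two-subgroups are solvable. -/
def LocalsSolvable (G : Type*) [Group G] : Prop :=
  ∀ V : Subgroup G, V ≠ ⊥ → IsPGroup 2 V →
    Group.IsSolvable ↥(normalizer (V : Set G))

/-- The Thompson subgroup, for the prime two. -/
noncomputable abbrev JT (T : Subgroup G) : Subgroup G := Cfsg.thompsonSubgroupOf 2 T

theorem JT_le (T : Subgroup G) : JT T ≤ T := CfsgLib.PLocal.thompsonSubgroupOf_le 2 T

theorem JT_conj (g : G) (T : Subgroup G) :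
    (JT T).map (MulAut.conj g).toMonoidHom = JT (T.map (MulAut.conj g).toMonoidHom) :=
  CfsgLib.PLocal.map_thompsonSubgroupOf (MulAut.conj g).injective T

theorem JT_ne_bot {T : Subgroup G} (hT : IsPGroup 2 T) (hT1 : T ≠ ⊥) : JT T ≠ ⊥ := by
  haveI : Fact (Nat.Prime 2) := ⟨Nat.prime_two⟩
  obtain ⟨A, hA⟩ := CfsgLib.PLocal.maxEAIn_nonempty 2 T
  intro hJ
  have hA1 : A = ⊥ := le_bot_iff.1 (hJ ▸ CfsgLib.PLocal.le_thompsonSubgroupOf hA)
  obtain ⟨j, hj⟩ := IsPGroup.iff_card.1 hT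
  have hj0 : j ≠ 0 := fun e => hT1 (card_eq_one.1 (by rw [hj, e, pow_zero]))
  obtain ⟨t, ht⟩ := exists_prime_orderOf_dvd_card' (G := T) 2 (hj ▸ dvd_pow_self 2 hj0)
  rw [← Subgroup.orderOf_coe] at ht
  have hle := hA.2.2 (zpowers (t : G)) (zpowers_le.2 t.2) ⟨inferInstance, fun u hu => by
    obtain ⟨i, rfl⟩ := hu
    rw [← zpow_natCast, ← zpow_mul, mul_comm, zpow_mul, zpow_natCast, ← ht, pow_orderOf_eq_one,
      one_zpow]⟩
  rw [hA1, card_bot, Nat.card_zpowers, ht] at hle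
  omega

/-- A two-subgroup is contained in a Sylow subgroup of a subgroup containing it. -/
theorem exists_maximal_two_subgroup {T N : Subgroup G} (hT : IsPGroup 2 T) (hTN : T ≤ N) :
    ∃ Z : Subgroup G, T ≤ Z ∧ Z ≤ N ∧ IsPGroup 2 Z ∧
      ∀ P : Subgroup G, IsPGroup 2 P → P ≤ N → Z ≤ P → P = Z := by
  obtain ⟨Z, hZ⟩ := (hT.comap_subtype (K := N)).exists_le_sylow
  refine ⟨(Z : Subgroup N).map N.subtype, ?_, map_subtype_le _, Z.2.map _, fun P hP hPN hle => ?_⟩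
  · rw [← map_subgroupOf_eq_of_le hTN]; exact map_mono hZ
  · rw [← map_subgroupOf_eq_of_le hPN]
    refine congrArg _ (Z.3 hP.comap_subtype fun z hz => ?_)
    exact mem_subgroupOf.2 (hle ⟨z, hz, rfl⟩)

/-- Two maximal two-subgroups of a subgroup are conjugate in it. -/
theorem exists_conj_maximal {N Z₁ Z₂ : Subgroup G} (h₁ : IsPGroup 2 Z₁) (h₁N : Z₁ ≤ N)
    (m₁ : ∀ P : Subgroup G, IsPGroup 2 P → P ≤ N → Z₁ ≤ P → P = Z₁)
    (h₂ : IsPGroup 2 Z₂) (h₂N : Z₂ ≤ N)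
    (m₂ : ∀ P : Subgroup G, IsPGroup 2 P → P ≤ N → Z₂ ≤ P → P = Z₂) :
    ∃ n ∈ N, Z₁.map (MulAut.conj n).toMonoidHom = Z₂ := by
  haveI : Fact (Nat.Prime 2) := ⟨Nat.prime_two⟩
  obtain ⟨S₁, hS₁⟩ := (h₁.comap_subtype (K := N)).exists_le_sylow
  obtain ⟨S₂, hS₂⟩ := (h₂.comap_subtype (K := N)).exists_le_sylow
  have e₁ : (S₁ : Subgroup N).map N.subtype = Z₁ :=
    m₁ _ (S₁.2.map _) (map_subtype_le _) (by rw [← map_subgroupOf_eq_of_le h₁N]; exact map_mono hS₁)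
  have e₂ : (S₂ : Subgroup N).map N.subtype = Z₂ :=
    m₂ _ (S₂.2.map _) (map_subtype_le _) (by rw [← map_subgroupOf_eq_of_le h₂N]; exact map_mono hS₂)
  obtain ⟨n, hn⟩ := MulAction.exists_smul_eq N S₁ S₂
  refine ⟨n, n.2, ?_⟩
  rw [← e₁, ← e₂, ← hn]
  ext z
  constructor
  · rintro ⟨w, ⟨s, hs, rfl⟩, rfl⟩
    exact ⟨n * s * n⁻¹, ⟨s, hs, rfl⟩, rfl⟩
  · rintro ⟨w, ⟨s, hs, rfl⟩, rfl⟩
    exact ⟨s, ⟨s, hs, rfl⟩, rfl⟩

/-- A strictly larger subgroup of a nilpotent group meets the normaliser outside. -/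
theorem exists_normalizing_notMem {D P : Subgroup G} (hP : IsPGroup 2 P) (hDP : D ≤ P)
    (hne : D ≠ P) : ∃ g ∈ P, g ∉ D ∧ g ∈ normalizer (D : Set G) := by
  haveI : Fact (Nat.Prime 2) := ⟨Nat.prime_two⟩
  haveI : Group.IsNilpotent P := hP.isNilpotent
  have hlt : D.subgroupOf P < ⊤ := lt_top_iff_ne_top.2 fun e =>
    hne (le_antisymm hDP (subgroupOf_eq_top.1 e))
  obtain ⟨n, hn, hnD⟩ := SetLike.exists_of_lt (Group.normalizerCondition_of_isNilpotent _ hlt)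
  refine ⟨n, n.2, fun e => hnD (mem_subgroupOf.2 e), mem_normalizer_iff.2 fun d => ⟨fun hd => ?_,
    fun hd => ?_⟩⟩
  · exact mem_subgroupOf.1 ((mem_normalizer_iff.1 hn ⟨d, hDP hd⟩).1 (mem_subgroupOf.2 hd))
  · have hdP : d ∈ P := by
      rw [show d = (n : G)⁻¹ * (n * d * (n : G)⁻¹) * n by group]
      exact mul_mem (mul_mem (inv_mem n.2) (hDP hd)) n.2
    exact mem_subgroupOf.1 ((mem_normalizer_iff.1 hn ⟨d, hdP⟩).2 (mem_subgroupOf.2 hd))

/-- A bad pair whose intersection is largest, with both members meeting the normaliser of the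
intersection in Sylow subgroups of it. -/
structure MaxPair (G : Type*) [Group G] where
  R₁ : Sylow 2 G
  R₂ : Sylow 2 G
  D : Subgroup G
  hD : D = (R₁ : Subgroup G) ⊓ R₂
  ne_bot : D ≠ ⊥
  J_ne : JT (R₁ : Subgroup G) ≠ JT (R₂ : Subgroup G)
  best : ∀ S₁ S₂ : Sylow 2 G, (S₁ : Subgroup G) ⊓ S₂ ≠ ⊥ →
    Nat.card D < Nat.card ↥((S₁ : Subgroup G) ⊓ S₂) → JT (S₁ : Subgroup G) = JT (S₂ : Subgroup G)
  lt₁ : D < (R₁ : Subgroup G) ⊓ normalizer (D : Set G)
  lt₂ : D < (R₂ : Subgroup G) ⊓ normalizer (D : Set G)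
  max₁ : ∀ P : Subgroup G, IsPGroup 2 P → P ≤ normalizer (D : Set G) →
    (R₁ : Subgroup G) ⊓ normalizer (D : Set G) ≤ P → P = (R₁ : Subgroup G) ⊓ normalizer (D : Set G)
  max₂ : ∀ P : Subgroup G, IsPGroup 2 P → P ≤ normalizer (D : Set G) →
    (R₂ : Subgroup G) ⊓ normalizer (D : Set G) ≤ P → P = (R₂ : Subgroup G) ⊓ normalizer (D : Set G)

/-- A bad pair gives a best one. -/
theorem exists_maxPair {S₁ S₂ : Sylow 2 G} (h1 : (S₁ : Subgroup G) ⊓ S₂ ≠ ⊥)
    (hJ : JT (S₁ : Subgroup G) ≠ JT (S₂ : Subgroup G)) : Nonempty (MaxPair G) := by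
  classical
  haveI : Fact (Nat.Prime 2) := ⟨Nat.prime_two⟩
  have : Fintype (Sylow 2 G) := Fintype.ofFinite _
  obtain ⟨⟨P, Q⟩, hmem, hmax⟩ := Finset.exists_max_image
    ((Finset.univ : Finset (Sylow 2 G × Sylow 2 G)).filter fun p =>
      (p.1 : Subgroup G) ⊓ p.2 ≠ ⊥ ∧ JT (p.1 : Subgroup G) ≠ JT (p.2 : Subgroup G))
    (fun p => Nat.card ↥((p.1 : Subgroup G) ⊓ p.2)) ⟨(S₁, S₂), by simp [h1, hJ]⟩
  simp only [Finset.mem_filter, Finset.mem_univ, true_and] at hmem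
  obtain ⟨hD1, hJD⟩ := hmem
  have best : ∀ U V : Sylow 2 G, (U : Subgroup G) ⊓ V ≠ ⊥ →
      Nat.card ↥((P : Subgroup G) ⊓ Q) < Nat.card ↥((U : Subgroup G) ⊓ V) →
      JT (U : Subgroup G) = JT (V : Subgroup G) := by
    intro U V hUV hlt
    by_contra hne
    exact absurd (hmax (U, V) (by simp [hUV, hne])) (not_le.2 hlt)
  set D := (P : Subgroup G) ⊓ Q with hD
  set N := normalizer (D : Set G) with hN
  have hDN : D ≤ N := le_normalizer
  have lift : ∀ U W : Sylow 2 G, D = (U : Subgroup G) ⊓ W →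
      JT (U : Subgroup G) ≠ JT (W : Subgroup G) →
      ∃ U' : Sylow 2 G, JT (U' : Subgroup G) = JT (U : Subgroup G) ∧ D < (U' : Subgroup G) ⊓ N ∧
        ∀ R : Subgroup G, IsPGroup 2 R → R ≤ N → (U' : Subgroup G) ⊓ N ≤ R →
          R = (U' : Subgroup G) ⊓ N := by
    intro U W hUW hne
    have hDU : D ≤ U := hUW ▸ inf_le_left
    have hDne : D ≠ U := by
      intro e
      have hle : (U : Subgroup G) ≤ W := inf_eq_left.1 (hUW.symm.trans e)
      have : U = W := Sylow.ext (U.3 W.2 hle).symm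
      exact hne (this ▸ rfl)
    obtain ⟨g, hgU, hgD, hgN⟩ := exists_normalizing_notMem U.2 hDU hDne
    obtain ⟨Z, hUZ, hZN, hZ2, hZmax⟩ := exists_maximal_two_subgroup
      (U.2.to_le (inf_le_left : (U : Subgroup G) ⊓ N ≤ U)) (inf_le_right)
    obtain ⟨U', hU'⟩ := hZ2.exists_le_sylow
    have hlt : D < (U' : Subgroup G) ⊓ U := by
      refine lt_of_le_not_ge (le_inf (fun d hd => hU' (hUZ ⟨hDU hd, hDN hd⟩)) hDU) fun h => hgD ?_
      exact h ⟨hU' (hUZ ⟨hgU, hgN⟩), hgU⟩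
    have hcard : Nat.card D < Nat.card ↥((U' : Subgroup G) ⊓ U) := by
      refine lt_of_le_of_ne (card_le_of_le hlt.le) fun e => hlt.ne ?_
      exact eq_of_le_of_card_ge hlt.le e.ge
    have hne1 : (U' : Subgroup G) ⊓ U ≠ ⊥ := fun e => not_lt_bot (e ▸ hlt)
    have hZeq : (U' : Subgroup G) ⊓ N = Z :=
      hZmax _ (U'.2.to_le inf_le_left) inf_le_right (le_inf hU' hZN)
    refine ⟨U', best _ _ hne1 hcard, ?_, fun R hR hRN hle => ?_⟩
    · refine lt_of_le_not_ge (le_inf (hlt.le.trans inf_le_left) hDN) fun h => hgD ?_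
      exact h ⟨hU' (hUZ ⟨hgU, hgN⟩), hgN⟩
    · rw [hZeq] at hle ⊢
      exact hZmax R hR hRN hle
  obtain ⟨P', hP'J, hP'lt, hP'max⟩ := lift P Q hD hJD
  obtain ⟨Q', hQ'J, hQ'lt, hQ'max⟩ := lift Q P (hD.trans (inf_comm _ _)) hJD.symm
  have hne' : JT (P' : Subgroup G) ≠ JT (Q' : Subgroup G) := by rw [hP'J, hQ'J]; exact hJD
  have hDle : D ≤ (P' : Subgroup G) ⊓ Q' :=
    le_inf (hP'lt.le.trans inf_le_left) (hQ'lt.le.trans inf_le_left)
  have hDeq : D = (P' : Subgroup G) ⊓ Q' := by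
    refine eq_of_le_of_card_ge hDle (not_lt.1 fun hlt => hne' (best _ _ ?_ hlt))
    exact fun e => hD1 (le_bot_iff.1 (e ▸ hDle))
  exact ⟨⟨P', Q', D, hDeq, hD1, hne', best, hP'lt, hQ'lt, hP'max, hQ'max⟩⟩

namespace MaxPair

variable (M : MaxPair G)

/-- The normaliser of the intersection. -/
abbrev N : Subgroup G := normalizer (M.D : Set G)

/-- The first Sylow subgroup of the normaliser. -/
abbrev T : Subgroup G := (M.R₁ : Subgroup G) ⊓ M.N

/-- The second Sylow subgroup of the normaliser. -/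
abbrev T' : Subgroup G := (M.R₂ : Subgroup G) ⊓ M.N

theorem D_isPGroup : IsPGroup 2 M.D := M.hD ▸ M.R₁.2.to_le inf_le_left

theorem D_le_T : M.D ≤ M.T := M.lt₁.le

theorem T_isPGroup : IsPGroup 2 M.T := M.R₁.2.to_le inf_le_left

theorem T'_isPGroup : IsPGroup 2 M.T' := M.R₂.2.to_le inf_le_left

theorem not_isPGroup_N : ¬ IsPGroup 2 M.N := by
  intro hN
  have h1 := M.max₁ M.N hN le_rfl inf_le_right
  have h2 := M.max₂ M.N hN le_rfl inf_le_right
  refine absurd M.lt₁ (not_lt_of_ge ?_)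
  rw [← h1, M.hD]
  exact le_inf (h1 ▸ inf_le_left) (h2 ▸ inf_le_left)

variable (hg : Good G) (hls : LocalsSolvable G)
include hg hls

theorem exists_local : ∃ L : LocalIn M.N, L.K = M.D := by
  haveI : Fact (Nat.Prime 2) := ⟨Nat.prime_two⟩
  haveI := hls M.D M.ne_bot M.D_isPGroup
  obtain ⟨L⟩ := exists_localIn hg (N := M.N) (D := M.D) le_normalizer le_rfl M.D_isPGroup
    M.ne_bot M.not_isPGroup_N
  refine ⟨L, le_antisymm ?_ ?_⟩
  · have key : ∀ R : Sylow 2 G,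
        (∀ P : Subgroup G, IsPGroup 2 P → P ≤ M.N → (R : Subgroup G) ⊓ M.N ≤ P →
          P = (R : Subgroup G) ⊓ M.N) → L.K ≤ R := by
      intro R hR
      have h2 : IsPGroup 2 ↥(L.K ⊔ (R : Subgroup G) ⊓ M.N) :=
        L.two.to_sup_of_normal_left' (R.2.to_le inf_le_left)
          (inf_le_right.trans L.le_normalizer)
      exact (le_sup_left.trans (hR _ h2 (sup_le L.le inf_le_right) le_sup_right).le).trans
        inf_le_left
    conv_rhs => rw [M.hD]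
    exact le_inf (key _ M.max₁) (key _ M.max₂)
  · exact L.le_K M.D M.D_isPGroup le_normalizer L.x L.mem (L.order ▸ L.prime)
      (L.order ▸ L.ne_two) L.mem

/-- A nontrivial subgroup of `D` normal in the normaliser of `D` has that normaliser. -/
theorem normalizer_eq {X : Subgroup G} (hX1 : X ≠ ⊥) (hXD : X ≤ M.D)
    (hNX : M.N ≤ normalizer (X : Set G)) : normalizer (X : Set G) = M.N := by
  haveI : Fact (Nat.Prime 2) := ⟨Nat.prime_two⟩
  refine le_antisymm ?_ hNX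
  set W := normalizer (X : Set G) with hW
  have hX2 : IsPGroup 2 X := M.D_isPGroup.to_le hXD
  haveI := hls X hX1 hX2
  obtain ⟨L, -⟩ := M.exists_local hg hls
  have hW2 : ¬ IsPGroup 2 W := fun h2 => M.not_isPGroup_N (h2.to_le hNX)
  obtain ⟨LW⟩ := exists_localIn hg (N := W) (D := X) le_normalizer le_rfl hX2 hX1 hW2
  obtain ⟨Z₁, hT₁, hZ₁W, hZ₁, hZ₁max⟩ := exists_maximal_two_subgroup M.T_isPGroup
    (inf_le_right.trans hNX : M.T ≤ W)
  obtain ⟨Z₂, hT₂, hZ₂W, hZ₂, hZ₂max⟩ := exists_maximal_two_subgroup M.T'_isPGroup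
    (inf_le_right.trans hNX : M.T' ≤ W)
  obtain ⟨U₁, hU₁⟩ := hZ₁.exists_le_sylow
  obtain ⟨U₂, hU₂⟩ := hZ₂.exists_le_sylow
  have hlarge : ∀ (U R : Sylow 2 G) (T : Subgroup G), M.D < T → T ≤ U → T ≤ R →
      JT (U : Subgroup G) = JT (R : Subgroup G) := by
    intro U R T hDT hTU hTR
    refine M.best U R (fun e => not_lt_bot (lt_of_lt_of_le hDT (e ▸ le_inf hTU hTR))) ?_
    refine lt_of_lt_of_le ?_ (card_le_of_le (le_inf hTU hTR))
    exact lt_of_le_of_ne (card_le_of_le hDT.le) fun e => hDT.ne (eq_of_le_of_card_ge hDT.le e.ge)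
  have hJ : JT (U₁ : Subgroup G) ≠ JT (U₂ : Subgroup G) := by
    rw [hlarge U₁ M.R₁ M.T M.lt₁ (hT₁.trans hU₁) inf_le_left,
      hlarge U₂ M.R₂ M.T' M.lt₂ (hT₂.trans hU₂) inf_le_left]
    exact M.J_ne
  have hKD : LW.K ≤ M.D := by
    have key : ∀ (Z : Subgroup G), IsPGroup 2 Z → Z ≤ W →
        (∀ P : Subgroup G, IsPGroup 2 P → P ≤ W → Z ≤ P → P = Z) → LW.K ≤ Z := by
      intro Z hZ hZW hmax
      have h2 : IsPGroup 2 ↥(LW.K ⊔ Z) :=
        LW.two.to_sup_of_normal_left' hZ (hZW.trans LW.le_normalizer)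
      exact le_sup_left.trans (hmax _ h2 (sup_le LW.le hZW) le_sup_right).le
    have hle : M.D ≤ (U₁ : Subgroup G) ⊓ U₂ :=
      le_inf (M.lt₁.le.trans (hT₁.trans hU₁)) (M.lt₂.le.trans (hT₂.trans hU₂))
    have : (U₁ : Subgroup G) ⊓ U₂ ≤ M.D := by
      refine (eq_of_le_of_card_ge hle (not_lt.1 fun hlt => hJ (M.best _ _ ?_ hlt))).ge
      exact fun e => M.ne_bot (le_bot_iff.1 (e ▸ hle))
    exact (le_inf ((key Z₁ hZ₁ hZ₁W hZ₁max).trans hU₁)
      ((key Z₂ hZ₂ hZ₂W hZ₂max).trans hU₂)).trans this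
  have hDK : M.D ≤ LW.K :=
    LW.le_K M.D M.D_isPGroup (le_normalizer.trans hNX) L.x (hNX L.mem) (L.order ▸ L.prime)
      (L.order ▸ L.ne_two) L.mem
  have := LW.le_normalizer
  rwa [le_antisymm hKD hDK] at this

end MaxPair

end CfsgLib.EPPOSeven
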