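import Mathlib.GroupTheory.PGroup
import Mathlib.GroupTheory.Sylow
import Cfsg.Agent.PrimeGraph.Lucido
import Cfsg.Agent.Solvable.FixedPointFree

/-!
# Groups whose elements have order a power of two or a prime other than five

The hypothesis and its immediate consequences: centralisers of nontrivial elements of prime order
are groups of prime power order, and the consequences for fixed-point-free action.
-/

set_option autoImplicit false
set_option linter.style.haveILetI false

namespace CfsgLib.EPPOSeven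

universe u

open Subgroup

/-- Every nonidentity element has order a power of two or a prime other than five. -/
def Good (G : Type*) [Group G] : Prop :=
  ∀ g : G, g ≠ 1 → (∃ k : ℕ, orderOf g = 2 ^ k) ∨ ((orderOf g).Prime ∧ orderOf g ≠ 5)

variable {G : Type*} [Group G]

namespace Good

theorem subgroup (h : Good G) (H : Subgroup G) : Good H := by
  intro g hg
  rw [← Subgroup.orderOf_coe g]
  exact h g fun e => hg (Subtype.ext e)

theorem of_equiv {H : Type*} [Group H] (h : Good G) (e : G ≃* H) : Good H := by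
  intro g hg
  obtain ⟨x, rfl⟩ := e.surjective g
  rw [MulEquiv.orderOf_eq e x]
  exact h x fun he => hg (by rw [he, map_one])

theorem quotient (h : Good G) (N : Subgroup G) [N.Normal] : Good (G ⧸ N) := by
  intro g hg
  obtain ⟨x, rfl⟩ := QuotientGroup.mk'_surjective N g
  have hd : orderOf (QuotientGroup.mk' N x) ∣ orderOf x := orderOf_map_dvd _ x
  rcases h x (fun he => hg (by rw [he, map_one])) with ⟨k, hk⟩ | ⟨hp, h5⟩
  · rw [hk] at hd
    obtain ⟨j, -, hj⟩ := (Nat.dvd_prime_pow Nat.prime_two).1 hd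
    exact Or.inl ⟨j, hj⟩
  · rcases hp.eq_one_or_self_of_dvd _ hd with h1 | h1
    · exact absurd (orderOf_eq_one_iff.1 h1) hg
    · exact Or.inr (h1.symm ▸ ⟨hp, h5⟩)

/-- An odd prime dividing the order of an element is that order. -/
theorem orderOf_eq_of_dvd (h : Good G) {g : G} {p : ℕ} (hp : p.Prime) (hp2 : p ≠ 2)
    (hd : p ∣ orderOf g) : orderOf g = p := by
  have hg : g ≠ 1 := by
    rintro rfl
    rw [orderOf_one] at hd
    exact hp.one_lt.ne' (Nat.eq_one_of_dvd_one hd)
  rcases h g hg with ⟨k, hk⟩ | ⟨hq, -⟩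
  · exact absurd ((Nat.prime_dvd_prime_iff_eq hp Nat.prime_two).1
      (hp.dvd_of_dvd_pow (hk ▸ hd))) hp2
  · exact ((Nat.prime_dvd_prime_iff_eq hp hq).1 hd).symm

theorem not_five_dvd (h : Good G) [Finite G] : ¬ 5 ∣ Nat.card G := by
  intro hd
  haveI : Fact (Nat.Prime 5) := ⟨by norm_num⟩
  obtain ⟨g, hg⟩ := exists_prime_orderOf_dvd_card' 5 hd
  rcases h g (fun he => by rw [he, orderOf_one] at hg; omega) with ⟨k, hk⟩ | ⟨-, h5⟩
  · have := Nat.Prime.dvd_of_dvd_pow (by norm_num : Nat.Prime 5) (hk ▸ hg.symm.dvd)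
    norm_num at this
  · exact h5 hg

/-- Commuting elements of distinct prime orders do not exist. -/
theorem false_of_commute (h : Good G) {p q : ℕ} (hp : p.Prime) (hq : q.Prime) (hpq : p ≠ q)
    {x y : G} (hx : orderOf x = p) (hy : orderOf y = q) (hc : Commute x y) : False := by
  obtain ⟨g, hg⟩ := CfsgLib.PrimeGraph.exists_orderOf_eq_mul_of_commute hp hq hpq hx hy hc
  by_cases hp2 : p = 2
  · have := h.orderOf_eq_of_dvd hq (fun e => hpq (hp2.trans e.symm)) (hg ▸ dvd_mul_left q p)
    rw [hg] at this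
    have := Nat.eq_of_mul_eq_mul_right hq.pos (this.trans (one_mul q).symm)
    exact hp.one_lt.ne' this
  · have := h.orderOf_eq_of_dvd hp hp2 (hg ▸ dvd_mul_right p q)
    rw [hg] at this
    have := Nat.eq_of_mul_eq_mul_left hp.pos (this.trans (mul_one p).symm)
    exact hq.one_lt.ne' this

variable [Finite G]

/-- An element commuting with an element of prime order `p` has order a power of `p`. -/
theorem orderOf_eq_pow_of_commute (h : Good G) {p : ℕ} (hp : p.Prime) {x c : G}
    (hx : orderOf x = p) (hc : Commute c x) : ∃ k : ℕ, orderOf c = p ^ k := by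
  refine ⟨_, Nat.eq_prime_pow_of_unique_prime_dvd (orderOf_pos c).ne' fun {q} hq hd => ?_⟩
  by_contra hqp
  exact h.false_of_commute hq hp hqp (x := c ^ (orderOf c / q)) (y := x)
    (orderOf_pow_orderOf_div (orderOf_pos c).ne' hd) hx (hc.pow_left _)

/-- The centraliser of an element of prime order `p` is a `p`-group. -/
theorem isPGroup_centralizer (h : Good G) {p : ℕ} (hp : p.Prime) {x : G} (hx : orderOf x = p) :
    IsPGroup p (centralizer ({x} : Set G)) := by
  haveI := Fact.mk hp
  refine IsPGroup.iff_orderOf.2 fun c => ?_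
  obtain ⟨k, hk⟩ := h.orderOf_eq_pow_of_commute hp hx (c := (c : G))
    (mem_centralizer_singleton_iff.1 c.2)
  exact ⟨k, by rw [← Subgroup.orderOf_coe, hk]⟩

/-- An element commuting with a nontrivial element of a `p`-group has order a power of `p`. -/
theorem orderOf_eq_pow_of_commute_mem (h : Good G) {p : ℕ} (hp : p.Prime) {V : Subgroup G}
    (hV : IsPGroup p V) {v c : G} (hv : v ∈ V) (hv1 : v ≠ 1) (hc : Commute c v) :
    ∃ k : ℕ, orderOf c = p ^ k := by
  haveI := Fact.mk hp
  obtain ⟨j, hj⟩ := IsPGroup.iff_orderOf.1 hV ⟨v, hv⟩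
  rw [Subgroup.orderOf_mk] at hj
  have hj0 : j ≠ 0 := fun h0 => hv1 (orderOf_eq_one_iff.1 (by rw [hj, h0, pow_zero]))
  refine h.orderOf_eq_pow_of_commute hp (x := v ^ (orderOf v / p))
    (orderOf_pow_orderOf_div (orderOf_pos v).ne' (hj ▸ dvd_pow_self p hj0)) (hc.pow_right _)

/-- An element of prime order different from `p` centralises no nontrivial element of a
`p`-group. -/
theorem eq_one_of_commute (h : Good G) {p q : ℕ} (hp : p.Prime) (hq : q.Prime) (hpq : q ≠ p)
    {V : Subgroup G} (hV : IsPGroup p V) {x : G} (hx : orderOf x = q) {v : G} (hv : v ∈ V)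
    (hc : Commute x v) : v = 1 := by
  by_contra hv1
  obtain ⟨k, hk⟩ := h.orderOf_eq_pow_of_commute_mem hp hV hv hv1 hc
  rw [hx] at hk
  rcases Nat.eq_zero_or_pos k with rfl | hk0
  · exact hq.one_lt.ne' hk
  · exact hpq ((Nat.prime_dvd_prime_iff_eq hq hp).1 (hq.dvd_of_dvd_pow hk.dvd))

omit [Finite G] in
/-- In a `p`-subgroup, `p` odd, every element has order dividing `p`. -/
theorem pow_eq_one (h : Good G) {p : ℕ} (hp : p.Prime) (hp2 : p ≠ 2) {P : Subgroup G}
    (hP : IsPGroup p P) {g : G} (hg : g ∈ P) : g ^ p = 1 := by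
  haveI := Fact.mk hp
  obtain ⟨j, hj⟩ := IsPGroup.iff_orderOf.1 hP ⟨g, hg⟩
  rw [Subgroup.orderOf_mk] at hj
  rcases Nat.eq_zero_or_pos j with rfl | hj0
  · rw [pow_zero, orderOf_eq_one_iff] at hj
    rw [hj, one_pow]
  · rw [← h.orderOf_eq_of_dvd hp hp2 (hj ▸ dvd_pow_self p hj0.ne'), pow_orderOf_eq_one]

/-- An element normalising a nontrivial `p`-group and an element of prime order inverted or
permuted by it: no Frobenius group of order prime to `p` normalises a nontrivial `p`-group. -/
theorem false_of_frobenius (h : Good G) {p q s : ℕ} (hp : p.Prime) (hq : q.Prime) (hs : s.Prime)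
    (hsp : s ≠ p) (hqp : q ≠ p) {V : Subgroup G} (hV : IsPGroup p V) (hV1 : V ≠ ⊥)
    {a x : G} (ha : orderOf a = s) (hx : orderOf x = q)
    (haV : a ∈ normalizer (V : Set G)) (hxV : x ∈ normalizer (V : Set G))
    (hxa : x ∈ normalizer ((zpowers a : Subgroup G) : Set G)) (hne : ¬ Commute x a) : False := by
  classical
  haveI := Fact.mk hp
  haveI := Fact.mk hq
  haveI := Fact.mk hs
  haveI : Nontrivial V := (Subgroup.nontrivial_iff_ne_bot V).2 hV1
  haveI := hV.center_nontrivial
  let Z : Subgroup G := (center V).map V.subtype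
  have hZV : Z ≤ V := map_subtype_le _
  have hZc : ∀ z ∈ Z, ∀ v ∈ V, v * z = z * v := by
    rintro _ ⟨z, hz, rfl⟩ v hv
    exact congrArg Subtype.val (mem_center_iff.1 hz ⟨v, hv⟩)
  have hZn : normalizer (V : Set G) ≤ normalizer (Z : Set G) := by
    intro g hg
    have key : ∀ g ∈ normalizer (V : Set G), ∀ z ∈ Z, g * z * g⁻¹ ∈ Z := by
      intro g hg z hz
      refine ⟨⟨g * z * g⁻¹, (mem_normalizer_iff.1 hg z).1 (hZV hz)⟩,
        mem_center_iff.2 fun w => Subtype.ext ?_, rfl⟩
      have hw := (mem_normalizer_iff''.1 hg w).1 w.2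
      show (w : G) * (g * z * g⁻¹) = g * z * g⁻¹ * w
      calc (w : G) * (g * z * g⁻¹) = g * ((g⁻¹ * w * g) * z) * g⁻¹ := by group
        _ = g * (z * (g⁻¹ * w * g)) * g⁻¹ := by rw [hZc z hz _ hw]
        _ = g * z * g⁻¹ * w := by group
    refine mem_normalizer_iff.2 fun z => ⟨key g hg z, fun hz => ?_⟩
    simpa [mul_assoc] using key g⁻¹ (inv_mem hg) _ hz
  let N : Subgroup G := normalizer (Z : Set G)
  letI : CommGroup Z :=
    { (inferInstance : Group Z) with
      mul_comm := fun u w => Subtype.ext (hZc w w.2 u (hZV u.2)) }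
  let φ : N →* MulAut Z :=
    { toFun := fun g =>
        { toFun := fun z => ⟨g * z * (g : G)⁻¹, (mem_normalizer_iff.1 g.2 z).1 z.2⟩
          invFun := fun z => ⟨(g : G)⁻¹ * z * g, (mem_normalizer_iff''.1 g.2 z).1 z.2⟩
          left_inv := fun z => Subtype.ext (by simp [mul_assoc])
          right_inv := fun z => Subtype.ext (by simp [mul_assoc])
          map_mul' := fun u w => Subtype.ext (by simp [mul_assoc]) }
      map_one' := MulEquiv.ext fun z => Subtype.ext (by simp)
      map_mul' := fun g k => MulEquiv.ext fun z => Subtype.ext (by simp [mul_assoc]) }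
  have hφ : ∀ g : N, ∀ z : Z, φ g z = z → Commute (g : G) z := fun g z he =>
    mul_inv_eq_iff_eq_mul.1 (congrArg Subtype.val he)
  let a' : N := ⟨a, hZn haV⟩
  let x' : N := ⟨x, hZn hxV⟩
  have hcard : Nat.card (zpowers a') = s := by
    rw [Nat.card_zpowers, ← ha]
    exact (Subgroup.orderOf_coe a').symm
  have key := CfsgLib.PrimeGraph.pow_card_eq_one_of_fixedPointFree φ (zpowers a') hq (x := x')
    (by rw [← hx]; exact (Subgroup.orderOf_coe x').symm) ?_ ?_ (mem_zpowers a') ?_ ?_
  · obtain ⟨z, hz⟩ := exists_ne (1 : center V)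
    let z' : Z := ⟨_, ⟨z, z.2, rfl⟩⟩
    have hz1 : z' ≠ 1 := fun e => hz (Subtype.ext (Subtype.ext
      (show ((z : V) : G) = 1 from congrArg (fun w : Z => (w : G)) e)))
    have h1 := key z'
    rw [hcard] at h1
    obtain ⟨j, hj⟩ := IsPGroup.iff_orderOf.1 (hV.to_le hZV) z'
    have h2 : orderOf z' ∣ s := orderOf_dvd_of_pow_eq_one h1
    rw [hj] at h2
    have hj0 : j ≠ 0 := fun h0 => hz1 (orderOf_eq_one_iff.1 (by rw [hj, h0, pow_zero]))
    exact hsp ((Nat.prime_dvd_prime_iff_eq hp hs).1 ((dvd_pow_self p hj0).trans h2)).symm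
  · refine mem_normalizer_iff.2 fun y => ?_
    have hy : y ∈ zpowers a' ↔ (y : G) ∈ zpowers a := by
      constructor
      · rintro ⟨i, rfl⟩
        exact ⟨i, by simp [a']⟩
      · rintro ⟨i, hi⟩
        exact ⟨i, Subtype.ext (by simpa [a'] using hi)⟩
    have hy' : x' * y * x'⁻¹ ∈ zpowers a' ↔ x * (y : G) * x⁻¹ ∈ zpowers a := by
      constructor
      · rintro ⟨i, hi⟩
        exact ⟨i, by simpa [a', x'] using congrArg Subtype.val hi⟩
      · rintro ⟨i, hi⟩
        exact ⟨i, Subtype.ext (by simpa [a', x'] using hi)⟩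
    rw [hy, hy']
    exact mem_normalizer_iff.1 hxa y
  · intro b hb hbx
    by_contra hb1
    obtain ⟨i, hi⟩ := hb
    refine hne (Commute.symm ?_)
    have ha' : a' ∈ zpowers b := by
      have := mem_zpowers_of_prime_card (g := (⟨b, ⟨i, hi⟩⟩ : zpowers a'))
        (g' := ⟨a', mem_zpowers a'⟩) hcard (fun e => hb1 (congrArg Subtype.val e))
      obtain ⟨k, hk⟩ := this
      exact ⟨k, by simpa using congrArg Subtype.val hk⟩
    obtain ⟨k, hk⟩ := ha'
    have : Commute a' x' := hk ▸ Commute.zpow_left hbx k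
    exact congrArg Subtype.val this
  · intro z hz
    exact Subtype.ext (h.eq_one_of_commute hp hs hsp (hV.to_le hZV) ha z.2 (hφ a' z hz))
  · intro z hz
    exact Subtype.ext (h.eq_one_of_commute hp hq hqp (hV.to_le hZV) hx z.2 (hφ x' z hz))

end Good

end CfsgLib.EPPOSeven
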