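import Cfsg.Agent.EPPOSeven.Solvable

/-!
# Solvable two-local subgroups, seen inside the ambient group
-/

set_option autoImplicit false
set_option linter.style.haveILetI false
set_option linter.unusedSectionVars false

namespace CfsgLib.EPPOSeven

open Subgroup

variable {G : Type*} [Group G]

/-- An element of prime order `q` in an element of `Good` order divisible by it. -/
theorem orderOf_eq_two_pow_or [Finite G] (h : Good G) (g : G) :
    (∃ j : ℕ, orderOf g = 2 ^ j) ∨ ((orderOf g).Prime ∧ orderOf g ≠ 2) := by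
  by_cases hg : g = 1
  · exact Or.inl ⟨0, by rw [hg, orderOf_one, pow_zero]⟩
  rcases h g hg with hk | ⟨hp, -⟩
  · exact Or.inl hk
  · by_cases h2 : orderOf g = 2
    · exact Or.inl ⟨1, by rw [h2, pow_one]⟩
    · exact Or.inr ⟨hp, h2⟩

theorem exists_two_pow_of_mem {P : Subgroup G} (hP : IsPGroup 2 P) {d : G} (hd : d ∈ P) :
    ∃ j : ℕ, orderOf d = 2 ^ j := by
  haveI : Fact (Nat.Prime 2) := ⟨Nat.prime_two⟩
  obtain ⟨j, hj⟩ := IsPGroup.iff_orderOf.1 hP ⟨d, hd⟩
  exact ⟨j, by rwa [Subgroup.orderOf_mk] at hj⟩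

namespace LocalData

variable (L : LocalData G)

instance : L.K.Normal := L.normal

instance : (L.K ⊔ zpowers L.x).Normal := L.normalX

variable [Finite G]

theorem f_x_ne_one : QuotientGroup.mk' L.K L.x ≠ 1 := by
  haveI := L.normal
  intro e
  obtain ⟨k, hk⟩ := exists_two_pow_of_mem L.two ((QuotientGroup.eq_one_iff L.x).1 e)
  rw [L.order] at hk
  exact L.ne_two ((Nat.prime_dvd_prime_iff_eq L.prime Nat.prime_two).1
    (L.prime.dvd_of_dvd_pow hk.dvd))

/-- The two-elements of `K⟨x⟩` lie in `K`. -/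
theorem mem_K_of_mem_sup {e : G} {j : ℕ} (he : orderOf e = 2 ^ j)
    (hm : e ∈ L.K ⊔ zpowers L.x) : e ∈ L.K := by
  haveI := L.normal
  set f := QuotientGroup.mk' L.K with hf
  obtain ⟨k, hk, i, rfl⟩ : ∃ k ∈ L.K, ∃ i : ℤ, k * L.x ^ i = e := by
    rw [← SetLike.mem_coe, normal_mul L.K (zpowers L.x)] at hm
    obtain ⟨k, hk, y, ⟨i, rfl⟩, rfl⟩ := hm
    exact ⟨k, hk, i, rfl⟩
  have h1 : f (k * L.x ^ i) = f L.x ^ i := by
    rw [map_mul, map_zpow, show f k = 1 from (QuotientGroup.eq_one_iff k).2 hk, one_mul]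
  have h2 : orderOf (f (k * L.x ^ i)) ∣ 2 ^ j := he ▸ orderOf_map_dvd f _
  have h3 : orderOf (f (k * L.x ^ i)) ∣ L.s := by
    rw [h1, ← Nat.card_zpowers]
    refine (card_dvd_of_le (zpowers_le.2 (zpow_mem (mem_zpowers _) i))).trans ?_
    rw [Nat.card_zpowers, ← L.order]
    exact orderOf_map_dvd f _
  have h4 : orderOf (f (k * L.x ^ i)) = 1 := Nat.eq_one_of_dvd_coprimes
    (((Nat.coprime_primes Nat.prime_two L.prime).2 L.ne_two.symm).pow_left j) h2 h3
  exact (QuotientGroup.eq_one_iff _).1 (orderOf_eq_one_iff.1 h4)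

/-- An element of odd prime order lies in `K⟨x⟩` and has order `s`. -/
theorem mem_sup_of_odd {y : G} (hy : (orderOf y).Prime) (hy2 : orderOf y ≠ 2) :
    y ∈ L.K ⊔ zpowers L.x ∧ orderOf y = L.s := by
  obtain ⟨c, hc⟩ := L.index
  have hym : y ∈ L.K ⊔ zpowers L.x := by
    set f := QuotientGroup.mk' (L.K ⊔ zpowers L.x)
    have h1 : orderOf (f y) ∣ orderOf y := orderOf_map_dvd f y
    have h2 : orderOf (f y) ∣ 2 ^ c := by
      rw [← hc, index_eq_card]; exact orderOf_dvd_natCard _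
    have h3 := Nat.eq_one_of_dvd_coprimes
      (((Nat.coprime_primes Nat.prime_two hy).2 hy2.symm).pow_left c) h2 h1
    exact (QuotientGroup.eq_one_iff y).1 (orderOf_eq_one_iff.1 h3)
  refine ⟨hym, ?_⟩
  set f := QuotientGroup.mk' L.K
  have hym' := hym
  rw [← SetLike.mem_coe, normal_mul L.K (zpowers L.x)] at hym'
  obtain ⟨k, hk, z, ⟨i, rfl⟩, he⟩ := hym'
  have hne : f y ≠ 1 := fun e => by
    obtain ⟨j, hj⟩ := exists_two_pow_of_mem L.two ((QuotientGroup.eq_one_iff y).1 e)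
    exact hy2 ((Nat.prime_dvd_prime_iff_eq hy Nat.prime_two).1 (hy.dvd_of_dvd_pow hj.dvd))
  have hd1 : orderOf (f y) = orderOf y :=
    (hy.eq_one_or_self_of_dvd _ (orderOf_map_dvd f y)).resolve_left
      (fun e => hne (orderOf_eq_one_iff.1 e))
  have hd2 : orderOf (f y) ∣ L.s := by
    rw [show f y = f L.x ^ i by
      rw [← he, map_mul, map_zpow, show f k = 1 from (QuotientGroup.eq_one_iff k).2 hk, one_mul],
      ← Nat.card_zpowers]
    refine (card_dvd_of_le (zpowers_le.2 (zpow_mem (mem_zpowers _) i))).trans ?_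
    rw [Nat.card_zpowers, ← L.order]
    exact orderOf_map_dvd f _
  rw [hd1] at hd2
  exact (Nat.prime_dvd_prime_iff_eq hy L.prime).1 hd2

/-- A two-subgroup normalised by an element of odd prime order lies in `K`. -/
theorem le_K_of_normalized (h : Good G) {P : Subgroup G} (hP : IsPGroup 2 P) {y : G}
    (hy : (orderOf y).Prime) (hy2 : orderOf y ≠ 2) (hyP : y ∈ normalizer (P : Set G)) :
    P ≤ L.K := by
  intro d hd
  by_contra hdK
  obtain ⟨j, hj⟩ := exists_two_pow_of_mem hP hd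
  obtain ⟨hym, -⟩ := L.mem_sup_of_odd hy hy2
  have h1 : d * y * d⁻¹ * y⁻¹ ∈ L.K ⊔ zpowers L.x :=
    mul_mem ((inferInstance : (L.K ⊔ zpowers L.x).Normal).conj_mem y hym d) (inv_mem hym)
  have h2 : d * y * d⁻¹ * y⁻¹ ∈ P := by
    rw [show d * y * d⁻¹ * y⁻¹ = d * (y * d⁻¹ * y⁻¹) by group]
    exact mul_mem hd ((mem_normalizer_iff.1 hyP d⁻¹).1 (inv_mem hd))
  obtain ⟨i, hi⟩ := exists_two_pow_of_mem hP h2
  have hmem := L.mem_K_of_mem_sup hi h1
  set f := QuotientGroup.mk' L.K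
  have hcomm : Commute (f d) (f y) := by
    have : f (d * y * d⁻¹ * y⁻¹) = 1 := (QuotientGroup.eq_one_iff _).2 hmem
    simp only [map_mul, map_inv, mul_inv_eq_one] at this
    exact mul_inv_eq_iff_eq_mul.1 this
  have hyf : orderOf (f y) = orderOf y :=
    (hy.eq_one_or_self_of_dvd _ (orderOf_map_dvd f y)).resolve_left fun e => by
      obtain ⟨k, hk⟩ := exists_two_pow_of_mem L.two
        ((QuotientGroup.eq_one_iff y).1 (orderOf_eq_one_iff.1 e))
      exact hy2 ((Nat.prime_dvd_prime_iff_eq hy Nat.prime_two).1 (hy.dvd_of_dvd_pow hk.dvd))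
  obtain ⟨k, hk⟩ := (h.quotient L.K).orderOf_eq_pow_of_commute hy hyf hcomm
  have hd1 : f d ≠ 1 := fun e => hdK ((QuotientGroup.eq_one_iff d).1 e)
  obtain ⟨l, -, hl⟩ := (Nat.dvd_prime_pow Nat.prime_two).1
    (hj ▸ orderOf_map_dvd f d : orderOf (f d) ∣ 2 ^ j)
  have hl0 : l ≠ 0 := fun e => hd1 (orderOf_eq_one_iff.1 (by rw [hl, e, pow_zero]))
  rw [hl] at hk
  exact hy2 ((Nat.prime_dvd_prime_iff_eq Nat.prime_two hy).1
    (Nat.prime_two.dvd_of_dvd_pow (hk ▸ dvd_pow_self 2 hl0))).symm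

/-- A product of an element of `K` and an element of odd prime order has order `s`. -/
theorem orderOf_mul_of_mem (h : Good G) {d y : G} (hd : d ∈ L.K) (hy : (orderOf y).Prime)
    (hy2 : orderOf y ≠ 2) : orderOf (d * y) = L.s := by
  obtain ⟨hym, -⟩ := L.mem_sup_of_odd hy hy2
  rcases orderOf_eq_two_pow_or h (d * y) with ⟨j, hj⟩ | ⟨hp, hp2⟩
  · exfalso
    have hyK : y ∈ L.K :=
      (mul_mem_cancel_left hd).1 (L.mem_K_of_mem_sup hj (mul_mem (mem_sup_left hd) hym))
    obtain ⟨k, hk⟩ := exists_two_pow_of_mem L.two hyK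
    exact hy2 ((Nat.prime_dvd_prime_iff_eq hy Nat.prime_two).1 (hy.dvd_of_dvd_pow hk.dvd))
  · exact (L.mem_sup_of_odd hp hp2).2

/-- The image of `x` under conjugation lies in the image of `⟨x⟩`. -/
theorem conj_mem (d : G) : ∃ i : ℤ,
    QuotientGroup.mk' L.K (d * L.x * d⁻¹) =
      (QuotientGroup.mk' L.K L.x) ^ i := by
  haveI := L.normal
  haveI := L.normalX
  have hm := (inferInstance : (L.K ⊔ zpowers L.x).Normal).conj_mem L.x
      (mem_sup_right (mem_zpowers _)) d
  rw [← SetLike.mem_coe, normal_mul L.K (zpowers L.x)] at hm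
  obtain ⟨k, hk, y, ⟨i, rfl⟩, he⟩ := hm
  refine ⟨i, ?_⟩
  rw [← he, map_mul, map_zpow, show QuotientGroup.mk' L.K k = 1 from (QuotientGroup.eq_one_iff k).2 hk,
    one_mul]

/-- An involution outside `K` inverts `x` modulo `K`. -/
theorem inverts (h : Good G) {a : G} (ha : orderOf a = 2) (haK : a ∉ L.K) :
    a * L.x * a * L.x ∈ L.K := by
  haveI := L.normal
  haveI := Fact.mk L.prime
  have hQ := h.quotient L.K
  obtain ⟨i, hi⟩ := L.conj_mem a
  set f := QuotientGroup.mk' L.K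
  have haa : a * a = 1 := by rw [← pow_two, ← ha, pow_orderOf_eq_one]
  have hinv : a⁻¹ = a := inv_eq_of_mul_eq_one_right haa
  have haf : orderOf (f a) = 2 := orderOf_eq_prime (by rw [pow_two, ← map_mul, haa, map_one])
    fun e => haK ((QuotientGroup.eq_one_iff a).1 e)
  rw [hinv] at hi
  by_contra hne
  set w := f (a * L.x * a) * f L.x with hw
  have hw1 : w ≠ 1 := fun e => hne ((QuotientGroup.eq_one_iff _).1
    (by rw [hw, ← map_mul] at e; exact e))
  have hcomm : Commute (f a) w := by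
    have hc : Commute (f (a * L.x * a)) (f L.x) := by
      rw [hi]; exact (Commute.refl _).zpow_left i
    show f a * w = w * f a
    calc f a * w = f a * f (a * L.x * a) * f L.x := by rw [hw]; exact (mul_assoc _ _ _).symm
      _ = f (a * (a * L.x * a) * L.x) := by simp only [map_mul]
      _ = f (L.x * (a * L.x * a) * a) := by
          congr 1
          simp only [← mul_assoc, haa, one_mul]
          simp only [mul_assoc, haa, mul_one]
      _ = f L.x * f (a * L.x * a) * f a := by simp only [map_mul]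
      _ = w * f a := by rw [hw, hc.eq]
  have hwo : orderOf w = L.s := by
    refine orderOf_eq_prime ?_ hw1
    have hxo : f L.x ^ L.s = 1 := by rw [← map_pow, ← L.order, pow_orderOf_eq_one, map_one]
    rw [hw, hi, (show Commute (f L.x ^ i) (f L.x) from (Commute.refl _).zpow_left i).mul_pow, hxo,
      mul_one, ← zpow_natCast, ← zpow_mul, mul_comm, zpow_mul, zpow_natCast, hxo, one_zpow]
  exact hQ.false_of_commute Nat.prime_two L.prime L.ne_two.symm haf hwo hcomm

/-- A product of two commuting involutions outside `K` lies in `K`. -/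
theorem mul_mem_K (h : Good G) {a a' : G} (ha : orderOf a = 2) (ha' : orderOf a' = 2)
    (haK : a ∉ L.K) (ha'K : a' ∉ L.K) {j : ℕ} (hj : orderOf (a * a') = 2 ^ j) :
    a * a' ∈ L.K := by
  haveI := L.normal
  refine L.mem_K_of_commutator_mem h hj ((QuotientGroup.eq_one_iff _).1 ?_)
  set f := QuotientGroup.mk' L.K
  have inv_eq : ∀ b : G, orderOf b = 2 → b ∉ L.K →
      f b * f L.x * (f b)⁻¹ = (f L.x)⁻¹ := by
    intro b hb hbK
    have hbb : b⁻¹ = b := inv_eq_of_mul_eq_one_right (by rw [← pow_two, ← hb, pow_orderOf_eq_one])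
    rw [← map_inv, hbb]
    refine eq_inv_of_mul_eq_one_left ?_
    rw [← map_mul, ← map_mul, ← map_mul]
    exact (QuotientGroup.eq_one_iff _).2 (L.inverts h hb hbK)
  show f (a * a' * L.x * (a * a')⁻¹ * L.x⁻¹) = 1
  rw [map_mul, map_mul, map_inv, map_inv, map_mul, map_mul, mul_inv_rev,
    show f a * f a' * f L.x * ((f a')⁻¹ * (f a)⁻¹) = f a * (f a' * f L.x * (f a')⁻¹) * (f a)⁻¹ by
      group, inv_eq a' ha' ha'K, ← conj_inv, inv_eq a ha haK, inv_inv, mul_inv_cancel]

/-- For `s = 3`, a two-group meets at most two cosets of `K`. -/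
theorem mul_mem_K_three (h : Good G) (h3 : L.s = 3) {P : Subgroup G} (hP : IsPGroup 2 P)
    {d d' : G} (hd : d ∈ P) (hd' : d' ∈ P) (hdK : d ∉ L.K) (hd'K : d' ∉ L.K) :
    d * d' ∈ L.K := by
  haveI := L.normal
  set f := QuotientGroup.mk' L.K
  have hxo : f L.x ^ (3 : ℕ) = 1 := by
    rw [← map_pow, ← h3, ← L.order, pow_orderOf_eq_one, map_one]
  have inv_eq : ∀ b ∈ P, b ∉ L.K → f b * f L.x * (f b)⁻¹ = (f L.x)⁻¹ := by
    intro b hb hbK
    obtain ⟨i, hi⟩ := L.conj_mem b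
    obtain ⟨j, hj⟩ := exists_two_pow_of_mem hP hb
    have hi' : f b * f L.x * (f b)⁻¹ = f L.x ^ i := by
      rw [← map_inv, ← map_mul, ← map_mul]; exact hi
    have hred : f L.x ^ i = f L.x ^ (i % 3) := by
      conv_lhs => rw [← Int.mul_ediv_add_emod i 3]
      rw [zpow_add, zpow_mul, show (3 : ℤ) = ((3 : ℕ) : ℤ) from rfl, zpow_natCast, hxo, one_zpow,
        one_mul]
    rcases (show i % 3 = 0 ∨ i % 3 = 1 ∨ i % 3 = 2 by omega) with hr | hr | hr <;>
      rw [hr] at hred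
    · exfalso
      refine L.f_x_ne_one ?_
      rw [hred, zpow_zero] at hi'
      exact conj_eq_one_iff.1 hi'
    · exfalso
      refine hbK (L.mem_K_of_commutator_mem h hj ((QuotientGroup.eq_one_iff _).1 ?_))
      show f (b * L.x * b⁻¹ * L.x⁻¹) = 1
      rw [map_mul, map_mul, map_mul, map_inv, map_inv, hi', hred, zpow_one, mul_inv_cancel]
    · rw [hi', hred, eq_inv_iff_mul_eq_one, show (2 : ℤ) = ((2 : ℕ) : ℤ) from rfl, zpow_natCast,
        ← pow_succ, hxo]
  obtain ⟨j, hj⟩ := exists_two_pow_of_mem hP (mul_mem hd hd')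
  refine L.mem_K_of_commutator_mem h hj ((QuotientGroup.eq_one_iff _).1 ?_)
  show f (d * d' * L.x * (d * d')⁻¹ * L.x⁻¹) = 1
  rw [map_mul, map_mul, map_inv, map_inv, map_mul, map_mul, mul_inv_rev,
    show f d * f d' * f L.x * ((f d')⁻¹ * (f d)⁻¹) = f d * (f d' * f L.x * (f d')⁻¹) * (f d)⁻¹ by
      group, inv_eq d' hd' hd'K, ← conj_inv, inv_eq d hd hdK, inv_inv, mul_inv_cancel]

/-- An involution outside `K` and its conjugate by `x` generate a group with an element of
order `s`. -/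
theorem orderOf_mul_conj (h : Good G) {a : G} (ha : orderOf a = 2) (haK : a ∉ L.K) :
    L.x * a * L.x⁻¹ ∉ L.K ∧ orderOf (L.x * a * L.x⁻¹) = 2 ∧
      orderOf (a * (L.x * a * L.x⁻¹)) = L.s := by
  haveI := L.normal
  haveI := L.normalX
  have hb : orderOf (L.x * a * L.x⁻¹) = 2 := by
    rw [show L.x * a * L.x⁻¹ = MulAut.conj L.x a from rfl, MulEquiv.orderOf_eq, ha]
  have hbK : L.x * a * L.x⁻¹ ∉ L.K := fun e => haK (by
    simpa [mul_assoc] using L.normal.conj_mem _ e L.x⁻¹)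
  refine ⟨hbK, hb, ?_⟩
  have hinv : a⁻¹ = a := inv_eq_of_mul_eq_one_right (by rw [← pow_two, ← ha, pow_orderOf_eq_one])
  set y := a * (L.x * a * L.x⁻¹) with hy
  have hym : y ∈ L.K ⊔ zpowers L.x := by
    rw [hy, show a * (L.x * a * L.x⁻¹) = a * L.x * a * L.x⁻¹ by simp only [← mul_assoc]]
    refine mul_mem ?_ (inv_mem (mem_sup_right (mem_zpowers _)))
    have := (inferInstance : (L.K ⊔ zpowers L.x).Normal).conj_mem L.x
      (mem_sup_right (mem_zpowers _)) a
    rwa [hinv] at this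
  rcases orderOf_eq_two_pow_or h y with ⟨j, hj⟩ | ⟨hp, hp2⟩
  · exfalso
    refine haK (L.mem_K_of_commutator_mem h (j := 1) (by rw [ha, pow_one]) ?_)
    rw [hinv, show a * L.x * a * L.x⁻¹ = y by rw [hy]; group]
    exact L.mem_K_of_mem_sup hj hym
  · set f := QuotientGroup.mk' L.K
    by_cases h1 : f y = 1
    · obtain ⟨j, hj⟩ := exists_two_pow_of_mem L.two ((QuotientGroup.eq_one_iff y).1 h1)
      exact absurd ((Nat.prime_dvd_prime_iff_eq hp Nat.prime_two).1
        (hp.dvd_of_dvd_pow hj.dvd)) hp2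
    · rw [← SetLike.mem_coe, normal_mul L.K (zpowers L.x)] at hym
      obtain ⟨k, hk, z, ⟨i, rfl⟩, he⟩ := hym
      have hfy : f y = f L.x ^ i := by
        rw [← he, map_mul, map_zpow, show f k = 1 from (QuotientGroup.eq_one_iff k).2 hk, one_mul]
      have hd1 : orderOf (f y) ∣ orderOf y := orderOf_map_dvd f y
      have hd2 : orderOf (f y) ∣ L.s := by
        rw [hfy, ← Nat.card_zpowers]
        refine (card_dvd_of_le (zpowers_le.2 (zpow_mem (mem_zpowers _) i))).trans ?_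
        rw [Nat.card_zpowers, ← L.order]
        exact orderOf_map_dvd f _
      have hne : orderOf (f y) ≠ 1 := fun e => h1 (orderOf_eq_one_iff.1 e)
      rw [(L.prime.eq_one_or_self_of_dvd _ hd2).resolve_left hne] at hd1
      exact ((Nat.prime_dvd_prime_iff_eq L.prime hp).1 hd1).symm

/-- If every involution lies in `K`, then `G = K⟨x⟩`. -/
theorem sup_eq_top (h : Good G) (hinv : ∀ a : G, orderOf a = 2 → a ∈ L.K) :
    L.K ⊔ zpowers L.x = ⊤ := by
  haveI := L.normal
  haveI := L.normalX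
  haveI := Fact.mk L.prime
  haveI : Fact (Nat.Prime 2) := ⟨Nat.prime_two⟩
  set M := L.K ⊔ zpowers L.x with hM
  obtain ⟨c, hc⟩ := L.index
  by_contra hne
  have hc0 : c ≠ 0 := fun e => hne (index_eq_one.1 (by rw [hc, e, pow_zero]))
  obtain ⟨z, hz, hzo⟩ := CfsgLib.PrimeGraph.exists_orderOf_mem_normalizer_sylow (r := L.s)
    Nat.prime_two M (Classical.arbitrary (Sylow L.s M)) (hc ▸ dvd_pow_self 2 hc0)
  set P : Sylow L.s M := Classical.arbitrary (Sylow L.s M) with hP
  set X := ((P : Subgroup M).map M.subtype : Subgroup G) with hX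
  have hXp : IsPGroup L.s X := P.2.map _
  have hdvd : L.s ∣ Nat.card M := by
    have := card_dvd_of_le (le_sup_right : zpowers L.x ≤ M)
    rwa [Nat.card_zpowers, L.order] at this
  have hXne : X ≠ ⊥ := by
    intro e
    rw [hX, map_eq_bot_iff_of_injective _ M.subtype_injective] at e
    have := P.dvd_card_of_dvd_card hdvd
    rw [e, card_bot] at this
    exact L.prime.one_lt.ne' (Nat.eq_one_of_dvd_one this)
  obtain ⟨⟨u, hu⟩, hune⟩ := @exists_ne _ ((Subgroup.nontrivial_iff_ne_bot _).2 hXne) 1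
  have hu1 : u ≠ 1 := fun e => hune (Subtype.ext e)
  have huo : orderOf u = L.s :=
    orderOf_eq_prime (h.pow_eq_one L.prime L.ne_two hXp hu) hu1
  have hzK := hinv z hzo
  -- `[z, u] ∈ K ∩ X = 1`
  set w := z * u * z⁻¹ * u⁻¹ with hw
  have hwX : w ∈ X := mul_mem ((mem_normalizer_iff.1 hz u).1 hu) (inv_mem hu)
  have hwK : w ∈ L.K := by
    rw [hw, show z * u * z⁻¹ * u⁻¹ = z * (u * z⁻¹ * u⁻¹) by group]
    exact mul_mem hzK (L.normal.conj_mem _ (inv_mem hzK) u)
  obtain ⟨i, hi⟩ := exists_two_pow_of_mem L.two hwK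
  obtain ⟨j, hj⟩ := IsPGroup.iff_orderOf.1 hXp ⟨w, hwX⟩
  rw [Subgroup.orderOf_mk] at hj
  have hw1 : orderOf w = 1 := Nat.eq_one_of_dvd_coprimes
    (((Nat.coprime_primes Nat.prime_two L.prime).2 L.ne_two.symm).pow i j) hi.dvd hj.dvd
  rw [orderOf_eq_one_iff, hw, mul_inv_eq_one, mul_inv_eq_iff_eq_mul] at hw1
  exact h.false_of_commute Nat.prime_two L.prime L.ne_two.symm hzo huo hw1

end LocalData

/-- The data of a two-local subgroup `N`, inside the ambient group. -/
structure LocalIn (N : Subgroup G) where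
  K : Subgroup G
  x : G
  s : ℕ
  le : K ≤ N
  le_normalizer : N ≤ normalizer (K : Set G)
  two : IsPGroup 2 K
  mem : x ∈ N
  prime : s.Prime
  ne_two : s ≠ 2
  order : orderOf x = s
  le_K : ∀ P : Subgroup G, IsPGroup 2 P → P ≤ N → ∀ y ∈ N, (orderOf y).Prime → orderOf y ≠ 2 →
    y ∈ normalizer (P : Set G) → P ≤ K
  orderOf_mul : ∀ d ∈ K, ∀ y ∈ N, (orderOf y).Prime → orderOf y ≠ 2 → orderOf (d * y) = s
  mul_mem : ∀ a ∈ N, ∀ a' ∈ N, orderOf a = 2 → orderOf a' = 2 → a ∉ K → a' ∉ K →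
    a * a' = a' * a → a * a' ∈ K
  mul_mem_three : s = 3 → ∀ P : Subgroup G, IsPGroup 2 P → P ≤ N → ∀ d ∈ P, ∀ d' ∈ P,
    d ∉ K → d' ∉ K → d * d' ∈ K
  order_mul_conj : ∀ a ∈ N, orderOf a = 2 → a ∉ K → x * a * x⁻¹ ∉ K ∧
    orderOf (x * a * x⁻¹) = 2 ∧ orderOf (a * (x * a * x⁻¹)) = s
  eq_sup : (∀ a ∈ N, orderOf a = 2 → a ∈ K) → N = K ⊔ zpowers x

/-- Every solvable subgroup with a nontrivial normal two-subgroup, not a two-group, has data. -/
theorem exists_localIn [Finite G] (h : Good G) {N : Subgroup G} [Group.IsSolvable N]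
    {D : Subgroup G} (hDN : D ≤ N) (hND : N ≤ normalizer (D : Set G)) (hD : IsPGroup 2 D)
    (hD1 : D ≠ ⊥) (hN : ¬ IsPGroup 2 N) : Nonempty (LocalIn N) := by
  haveI : (D.subgroupOf N).Normal := (normal_subgroupOf_iff_le_normalizer hDN).2 hND
  have hD1' : D.subgroupOf N ≠ ⊥ := fun e => hD1 (by
    rw [subgroupOf_eq_bot] at e
    exact disjoint_self.1 (e.mono_right hDN))
  obtain ⟨L⟩ := exists_localData (h.subgroup N) (D := D.subgroupOf N) hD.comap_subtype hD1' hN
  have hh := h.subgroup N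
  have hKle : L.K.map N.subtype ≤ N := map_subtype_le _
  have key : ∀ g : N, (g : G) ∈ L.K.map N.subtype ↔ g ∈ L.K := fun g =>
    mem_map_iff_mem N.subtype_injective
  refine ⟨⟨L.K.map N.subtype, L.x, L.s, hKle, ?_, L.two.map _, L.x.2, L.prime, L.ne_two, ?_, ?_,
    ?_, ?_, ?_, ?_, ?_⟩⟩
  · refine (normal_subgroupOf_iff_le_normalizer hKle).1 ?_
    rw [subgroupOf, comap_map_eq_self_of_injective N.subtype_injective]
    exact L.normal
  · rw [Subgroup.orderOf_coe]; exact L.order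
  · intro P hP hPN y hy hyp hy2 hyP
    rw [← map_subgroupOf_eq_of_le hPN]
    refine map_mono (L.le_K_of_normalized hh (P := P.subgroupOf N) hP.comap_subtype (y := ⟨y, hy⟩)
      (by rw [Subgroup.orderOf_mk]; exact hyp) (by rw [Subgroup.orderOf_mk]; exact hy2)
      (mem_normalizer_iff.2 fun g => ?_))
    simp only [mem_subgroupOf, Subgroup.coe_mul, InvMemClass.coe_inv]
    exact mem_normalizer_iff.1 hyP g
  · intro d hd y hy hyp hy2
    rw [← L.orderOf_mul_of_mem hh (d := ⟨d, hKle hd⟩) (y := ⟨y, hy⟩) ((key _).1 hd)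
      (by rw [Subgroup.orderOf_mk]; exact hyp) (by rw [Subgroup.orderOf_mk]; exact hy2),
      ← Subgroup.orderOf_coe]
    rfl
  · intro a ha a' ha' hao ha'o haK ha'K hc
    have h2 : (a * a') ^ 2 = 1 := by
      rw [(show Commute a a' from hc).mul_pow]
      nth_rewrite 1 [← hao]
      rw [pow_orderOf_eq_one, one_mul, ← ha'o, pow_orderOf_eq_one]
    obtain ⟨j, -, hj⟩ := (Nat.dvd_prime_pow Nat.prime_two (i := a * a' |> orderOf) (m := 1)).1
      (by rw [pow_one]; exact orderOf_dvd_of_pow_eq_one h2)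
    exact (key (⟨a, ha⟩ * ⟨a', ha'⟩)).2 (L.mul_mem_K hh (by rw [Subgroup.orderOf_mk]; exact hao)
      (by rw [Subgroup.orderOf_mk]; exact ha'o) (fun e => haK ((key _).2 e))
      (fun e => ha'K ((key _).2 e)) (j := j) (by rw [← Subgroup.orderOf_coe]; exact hj))
  · intro h3 P hP hPN d hd d' hd' hdK hd'K
    exact (key (⟨d, hPN hd⟩ * ⟨d', hPN hd'⟩)).2 (L.mul_mem_K_three hh h3
      (P := P.subgroupOf N) hP.comap_subtype hd hd'
      (fun e => hdK ((key _).2 e)) (fun e => hd'K ((key _).2 e)))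
  · intro a ha hao haK
    obtain ⟨h1, h2, h3⟩ := L.orderOf_mul_conj hh (a := ⟨a, ha⟩)
      (by rw [Subgroup.orderOf_mk]; exact hao) (fun e => haK ((key _).2 e))
    refine ⟨fun e => h1 ((key _).1 e), ?_, ?_⟩
    · rw [← Subgroup.orderOf_coe] at h2; exact h2
    · rw [← Subgroup.orderOf_coe] at h3; exact h3
  · intro hinv
    have := congrArg (Subgroup.map N.subtype) (L.sup_eq_top hh fun a ha =>
      (key a).1 (hinv a a.2 (by rw [Subgroup.orderOf_coe]; exact ha)))
    rw [Subgroup.map_sup, MonoidHom.map_zpowers, ← MonoidHom.range_eq_map, range_subtype] at this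
    exact this.symm

end CfsgLib.EPPOSeven
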