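import Cfsg.Agent.EPPOSeven.Basic
import Cfsg.Agent.LocalStructure.Cores

/-!
# The solvable groups with a nontrivial normal two-subgroup

Such a group which is not a two-group has a normal two-subgroup `K`, and `G/K` has a
self-centralising normal subgroup of odd prime order and two-power index.
-/

set_option autoImplicit false
set_option linter.style.haveILetI false

namespace CfsgLib.EPPOSeven

open Subgroup

variable {G : Type*} [Group G]

/-- An element of an abelian group of prime exponent acting without fixed points. -/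
theorem Good.card_le_of_fpf [Finite G] (h : Good G) {p s : ℕ} (hp : p.Prime) (hs : s.Prime)
    (hs2 : s ≠ 2) (hsp : s ≠ p) {K : Subgroup G} [K.Normal] (hK : IsPGroup p K) (hK1 : K ≠ ⊥)
    {S : Subgroup G} (hS : IsPGroup s S) : Nat.card S ≤ s := by
  haveI := Fact.mk hs
  by_cases hS1 : S = ⊥
  · rw [hS1, card_bot]; exact hs.one_lt.le
  haveI : Nontrivial S := (Subgroup.nontrivial_iff_ne_bot S).2 hS1
  haveI := hS.center_nontrivial
  have hfpf : ∀ a ∈ S, a ≠ 1 → K ⊓ centralizer ({a} : Set G) = ⊥ := by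
    intro a ha ha1
    have hao : orderOf a = s :=
      orderOf_eq_prime (h.pow_eq_one hs hs2 hS ha) ha1
    refine (eq_bot_iff_forall _).2 fun v hv => ?_
    exact h.eq_one_of_commute hp hs hsp hK hao hv.1
      (Commute.symm (mem_centralizer_singleton_iff.1 hv.2))
  obtain ⟨⟨z, hz⟩, hz1⟩ := exists_ne (1 : center S)
  have hzG : (z : G) ≠ 1 := fun e => hz1 (Subtype.ext (Subtype.ext e))
  have hzo : orderOf (z : G) = s := orderOf_eq_prime (h.pow_eq_one hs hs2 hS z.2) hzG
  suffices hle : S ≤ zpowers (z : G) by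
    refine (card_le_of_le hle).trans ?_
    rw [Nat.card_zpowers, hzo]
  intro u hu
  by_cases hu1 : u = 1
  · rw [hu1]; exact one_mem _
  have huo : orderOf u = s := orderOf_eq_prime (h.pow_eq_one hs hs2 hS hu) hu1
  have hcomm : ∀ a ∈ ({(z : G), u} : Set G), ∀ b ∈ ({(z : G), u} : Set G), a * b = b * a := by
    have hzu : (z : G) * u = u * z := (congrArg Subtype.val (mem_center_iff.1 hz ⟨u, hu⟩)).symm
    rintro a (rfl | rfl) b (rfl | rfl) <;> first | rfl | exact hzu | exact hzu.symm
  set A : Subgroup G := closure ({(z : G), u} : Set G) with hAdef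
  have hAS : A ≤ S := by
    rw [hAdef, closure_le]
    rintro a (rfl | rfl)
    · exact z.2
    · exact hu
  haveI : IsMulCommutative A := isMulCommutative_closure hcomm
  haveI hcyc : IsCyclic A := CfsgLib.Solvable.isCyclic_of_fpf_comm hK1 hfpf hAS
  obtain ⟨g, hg⟩ := IsCyclic.exists_generator (α := A)
  have hcard : Nat.card A ≤ s := by
    rw [← orderOf_eq_card_of_forall_mem_zpowers hg, ← Subgroup.orderOf_coe]
    by_cases hg1 : (g : G) = 1
    · rw [hg1, orderOf_one]; exact hs.one_lt.le
    · rw [orderOf_eq_prime (h.pow_eq_one hs hs2 hS (hAS g.2)) hg1]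
  have hzA : zpowers (z : G) ≤ A := zpowers_le.2 (subset_closure (Set.mem_insert _ _))
  rw [eq_of_le_of_card_ge hzA (by rw [Nat.card_zpowers, hzo]; exact hcard)]
  exact subset_closure (Set.mem_insert_of_mem _ rfl)

/-- A normal two-subgroup with a self-centralising subgroup of odd prime order in the quotient,
normal of two-power index. -/
structure LocalData (G : Type*) [Group G] where
  K : Subgroup G
  normal : K.Normal
  two : IsPGroup 2 K
  x : G
  s : ℕ
  prime : s.Prime
  ne_two : s ≠ 2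
  order : orderOf x = s
  normalX : (K ⊔ zpowers x).Normal
  index : ∃ c : ℕ, (K ⊔ zpowers x).index = 2 ^ c

variable [Finite G]

/-- Existence of the data. -/
theorem exists_localData (h : Good G) [Group.IsSolvable G] {D : Subgroup G} [D.Normal]
    (hD : IsPGroup 2 D) (hD1 : D ≠ ⊥) (hG : ¬ IsPGroup 2 G) :
    Nonempty (LocalData G) := by
  classical
  haveI : Fact (Nat.Prime 2) := ⟨Nat.prime_two⟩
  set K := Cfsg.pCore 2 G with hKdef
  haveI hKn : K.Normal := CfsgLib.LocalStructure.pCore_normal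
  have hK : IsPGroup 2 K := CfsgLib.LocalStructure.pCore_isPGroup
  have hK1 : K ≠ ⊥ := fun e => hD1 (le_bot_iff.1 (e ▸ CfsgLib.LocalStructure.le_pCore hD))
  haveI : Nontrivial (G ⧸ K) := by
    rw [← Finite.one_lt_card_iff_nontrivial, ← Subgroup.index_eq_card]
    refine Nat.one_lt_iff_ne_zero_and_ne_one.2 ⟨index_ne_zero_of_finite, fun e => hG ?_⟩
    rw [index_eq_one] at e
    exact (e ▸ hK).of_equiv Subgroup.topEquiv
  obtain ⟨V, s, hs, hVn, hV1, hVc, hVs⟩ :=
    CfsgLib.PrimeGraph.exists_normal_elementary (G := G ⧸ K) inferInstance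
  haveI := Fact.mk hs
  haveI := hVn
  have hVp : IsPGroup s V := fun v => ⟨1, Subtype.ext (by simpa using hVs v v.2)⟩
  set M := V.comap (QuotientGroup.mk' K) with hMdef
  haveI hMn : M.Normal := hVn.comap _
  have hKM : K ≤ M := fun k hk => mem_comap.2 (by
    rw [show QuotientGroup.mk' K k = 1 from (QuotientGroup.eq_one_iff k).2 hk]; exact one_mem _)
  have hs2 : s ≠ 2 := by
    rintro rfl
    refine hV1 ((eq_bot_iff_forall _).2 fun v hv => ?_)
    obtain ⟨m, rfl⟩ := QuotientGroup.mk'_surjective K v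
    have hMp : IsPGroup 2 M := hVp.comap_of_ker_isPGroup (QuotientGroup.mk' K)
      (by rw [QuotientGroup.ker_mk']; exact hK)
    exact (QuotientGroup.eq_one_iff m).2 (CfsgLib.LocalStructure.le_pCore hMp (mem_comap.2 hv))
  obtain ⟨⟨v, hv⟩, hvne⟩ := (Subgroup.nontrivial_iff_ne_bot V).2 hV1 |> fun h => @exists_ne _ h 1
  have hv1 : v ≠ 1 := fun e => hvne (Subtype.ext e)
  obtain ⟨m, rfl⟩ := QuotientGroup.mk'_surjective K v
  -- an element of order `s` in `M`
  have hdM : s ∣ Nat.card M := by
    have h1 : orderOf (QuotientGroup.mk' K m) = s := orderOf_eq_prime (hVs _ hv) hv1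
    have h2 : orderOf (QuotientGroup.mk' K m) ∣ orderOf m := orderOf_map_dvd _ m
    rw [h1] at h2
    exact h2.trans (orderOf_dvd_natCard M (show m ∈ M from mem_comap.2 hv) |> id)
  obtain ⟨x, hx⟩ := exists_prime_orderOf_dvd_card' (G := M) s hdM
  rw [← Subgroup.orderOf_coe] at hx
  -- `M = K⟨x⟩`
  let X : Sylow s M := Classical.arbitrary _
  have hXle : Nat.card ((X : Subgroup M).map M.subtype) ≤ s :=
    h.card_le_of_fpf Nat.prime_two hs hs2 hs2 hK hK1 (X.2.map _)
  rw [card_map_of_injective M.subtype_injective] at hXle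
  have hMeq : K ⊔ zpowers (x : G) = M := by
    refine eq_of_le_of_card_ge (sup_le hKM (zpowers_le.2 x.2)) ?_
    -- `|M| ∣ |K| s`
    obtain ⟨a, ha⟩ := IsPGroup.iff_card.1 hK
    obtain ⟨b, hb⟩ := IsPGroup.iff_card.1 hVp
    have hMcard : Nat.card M = 2 ^ a * s ^ b := by
      rw [← card_mul_index (K.subgroupOf M), Nat.card_congr (subgroupOfEquivOfLe hKM).toEquiv, ha,
        ← hb]
      congr 1
      have h3 : (⊥ : Subgroup (G ⧸ K)).comap (QuotientGroup.mk' K) = K := by
        rw [MonoidHom.comap_bot, QuotientGroup.ker_mk']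
      have h4 := relIndex_comap (⊥ : Subgroup (G ⧸ K)) (QuotientGroup.mk' K) M
      rw [h3] at h4
      rw [← Subgroup.relIndex, h4, hMdef,
        map_comap_eq_self_of_surjective (QuotientGroup.mk'_surjective _), relIndex_bot_left]
    have hXcard : Nat.card (X : Subgroup M) = s ^ b := by
      rw [X.card_eq_multiplicity, hMcard, Nat.factorization_mul (by positivity)
        (pow_ne_zero _ hs.ne_zero), Finsupp.add_apply, Nat.prime_two.factorization_pow,
        hs.factorization_pow, Finsupp.single_eq_same, Finsupp.single_eq_of_ne hs2, zero_add]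
    have hb1 : s ^ b ≤ s := hXcard ▸ hXle
    have hd1 : 2 ^ a ∣ Nat.card ↥(K ⊔ zpowers (x : G)) := ha ▸ card_dvd_of_le le_sup_left
    have hd2 : s ∣ Nat.card ↥(K ⊔ zpowers (x : G)) := by
      have := card_dvd_of_le (le_sup_right : zpowers (x : G) ≤ K ⊔ zpowers (x : G))
      rwa [Nat.card_zpowers, hx] at this
    have hd := Nat.Coprime.mul_dvd_of_dvd_of_dvd
      (((Nat.coprime_primes Nat.prime_two hs).2 hs2.symm).pow_left a) hd1 hd2
    rw [hMcard]
    exact (Nat.mul_le_mul_left _ hb1).trans (Nat.le_of_dvd Nat.card_pos hd)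
  haveI : (K ⊔ zpowers (x : G)).Normal := by rw [hMeq]; exact hMn
  refine ⟨⟨K, hKn, hK, x, s, hs, hs2, hx, ‹_›, ?_⟩⟩
  rw [hMeq]
  refine ⟨_, Nat.eq_prime_pow_of_unique_prime_dvd index_ne_zero_of_finite fun {q} hq hqd => ?_⟩
  by_contra hq2
  haveI := Fact.mk hq
  by_cases hqs : q = s
  · subst hqs
    let S : Sylow q G := Classical.arbitrary _
    have hS := h.card_le_of_fpf Nat.prime_two hs hs2 hs2 hK hK1 S.2
    have h1 : q * q ∣ Nat.card G := by
      rw [← card_mul_index M]
      exact mul_dvd_mul (hdM) hqd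
    have h2 : q ^ 2 ∣ Nat.card (S : Subgroup G) := by
      rw [pow_two]
      exact S.pow_dvd_card_of_pow_dvd_card (n := 2) (by rwa [pow_two]) |> fun h => by rwa [pow_two] at h
    have := Nat.le_of_dvd Nat.card_pos h2
    have hq1 := hq.one_lt
    nlinarith
  obtain ⟨z, hz, hzo⟩ := CfsgLib.PrimeGraph.exists_orderOf_mem_normalizer_sylow (r := s) hq M X hqd
  have hXne : ((X : Subgroup M).map M.subtype) ≠ ⊥ := by
    intro e
    rw [map_eq_bot_iff_of_injective _ M.subtype_injective] at e
    have := X.dvd_card_of_dvd_card hdM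
    rw [e, card_bot] at this
    exact hs.one_lt.ne' (Nat.eq_one_of_dvd_one this)
  obtain ⟨⟨a, haX⟩, hane⟩ :=
    @exists_ne _ ((Subgroup.nontrivial_iff_ne_bot _).2 hXne) 1
  have hane' : a ≠ 1 := fun e => hane (Subtype.ext e)
  have hao : orderOf a = s := orderOf_eq_prime (h.pow_eq_one hs hs2 (X.2.map _) haX) hane'
  have hXa : zpowers a = (X : Subgroup M).map M.subtype :=
    eq_of_le_of_card_ge (zpowers_le.2 haX) (by
      rw [Nat.card_zpowers, hao, card_map_of_injective M.subtype_injective]; exact hXle)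
  by_cases hc : Commute z a
  · exact h.false_of_commute hq hs hqs hzo hao hc
  · exact h.false_of_frobenius Nat.prime_two hq hs hs2 hq2 hK hK1 hao hzo
      ((normalizer_eq_top (H := K)).ge trivial) ((normalizer_eq_top (H := K)).ge trivial)
      (hXa ▸ hz) hc

namespace LocalData

variable (L : LocalData G)

/-- The quotient by the normal two-subgroup is again `Good`, with commuting elements of coprime
orders trivial; a two-element commuting with `x` modulo `K` lies in `K`. -/
theorem mem_K_of_commutator_mem (h : Good G) {d : G} {j : ℕ} (hd : orderOf d = 2 ^ j)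
    (hc : d * L.x * d⁻¹ * L.x⁻¹ ∈ L.K) : d ∈ L.K := by
  haveI := L.normal
  haveI := Fact.mk L.prime
  have hQ := h.quotient L.K
  set f := QuotientGroup.mk' L.K
  by_contra hdK
  have hd1 : f d ≠ 1 := fun e => hdK ((QuotientGroup.eq_one_iff d).1 e)
  have hdvd : orderOf (f d) ∣ 2 ^ j := hd ▸ orderOf_map_dvd f d
  obtain ⟨i, -, hi⟩ := (Nat.dvd_prime_pow Nat.prime_two).1 hdvd
  have hi0 : i ≠ 0 := fun e => hd1 (orderOf_eq_one_iff.1 (by rw [hi, e, pow_zero]))
  have hx : orderOf (f L.x) = L.s := by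
    refine (L.prime.eq_one_or_self_of_dvd _ (L.order ▸ orderOf_map_dvd f L.x)).resolve_left ?_
    intro e
    obtain ⟨k, hk⟩ := IsPGroup.iff_orderOf.1 L.two
      ⟨L.x, (QuotientGroup.eq_one_iff L.x).1 (orderOf_eq_one_iff.1 e)⟩
    rw [Subgroup.orderOf_mk, L.order] at hk
    exact L.ne_two ((Nat.prime_dvd_prime_iff_eq L.prime Nat.prime_two).1
      (L.prime.dvd_of_dvd_pow hk.dvd))
  have hcomm : Commute (f d) (f L.x) := by
    have : f (d * L.x * d⁻¹ * L.x⁻¹) = 1 := (QuotientGroup.eq_one_iff _).2 hc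
    simp only [map_mul, map_inv, mul_inv_eq_one] at this
    exact mul_inv_eq_iff_eq_mul.1 this
  obtain ⟨k, hk⟩ := hQ.orderOf_eq_pow_of_commute L.prime hx hcomm
  rw [hi] at hk
  exact L.ne_two ((Nat.prime_dvd_prime_iff_eq Nat.prime_two L.prime).1
    (Nat.prime_two.dvd_of_dvd_pow (hk ▸ dvd_pow_self 2 hi0))).symm

end LocalData

end CfsgLib.EPPOSeven
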