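import Cfsg.Agent.EPPOSeven.Pairs
import Cfsg.Agent.Small.Dihedral
import Cfsg.Agent.Characters.FrobeniusKernel
import Cfsg.Agent.CharactersDeep.ZassenhausClassification

/-!
# The strongly embedded case

When Sylow two-subgroups with a common involution have the same Thompson subgroup, the group is a
Zassenhaus group on the conjugates of the normaliser of that Thompson subgroup.
-/

set_option autoImplicit false
set_option linter.style.haveILetI false
set_option linter.unusedSectionVars false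

namespace CfsgLib.EPPOSeven

open Subgroup MulAction

variable {G : Type*} [Group G] [Finite G]

/-- An involution normalising a cyclic group of prime order without centralising it inverts it. -/
theorem Good.inverts_generator (h : Good G) {x u : G} {s : ℕ} (hs : s.Prime) (hs2 : s ≠ 2)
    (hx : orderOf x = s) (hu : orderOf u = 2) (hn : u * x * u⁻¹ ∈ zpowers x) :
    u * x * u⁻¹ = x⁻¹ := by
  have huu := CfsgLib.Small.mul_self_of_orderOf_two hu
  have hui := CfsgLib.Small.inv_eq_self_of_orderOf_two hu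
  by_contra hne
  obtain ⟨i, hi⟩ := hn
  set w := u * x * u⁻¹ * x with hw
  have hwx : w = x ^ (i + 1) := by rw [hw, zpow_add_one, show x ^ i = u * x * u⁻¹ from hi]
  have hw1 : w ≠ 1 := fun e => hne (eq_inv_of_mul_eq_one_left e)
  have hws : orderOf w = s := by
    haveI := Fact.mk hs
    refine orderOf_eq_prime ?_ hw1
    rw [hwx, ← zpow_natCast, ← zpow_mul, mul_comm, zpow_mul, zpow_natCast, ← hx, pow_orderOf_eq_one,
      one_zpow]
  have hc : Commute u w := by
    have h1 : Commute (u * x * u⁻¹) x := by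
      rw [← show x ^ i = u * x * u⁻¹ from hi]; exact (Commute.refl x).zpow_left i
    show u * w = w * u
    calc u * w = u * (u * x * u⁻¹ * x) := rfl
      _ = (u * u) * x * u⁻¹ * x := by group
      _ = x * (u * x * u⁻¹) * u := by rw [huu, one_mul, hui]; simp only [mul_assoc, huu, mul_one]
      _ = w * u := by rw [← h1.eq]
  exact h.false_of_commute Nat.prime_two hs hs2.symm hu hws hc

variable (hg : Good G) (hls : LocalsSolvable G)
  (hev : 2 ∣ Nat.card G)
  (hno : ∀ S₁ S₂ : Sylow 2 G, (S₁ : Subgroup G) ⊓ S₂ ≠ ⊥ →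
    JT (S₁ : Subgroup G) = JT (S₂ : Subgroup G))
include hg hls hev hno

/-- Without a bad pair the group is a Zassenhaus group. -/
theorem psl_or_suzuki [IsSimpleGroup G] (hna : ¬ IsMulCommutative G) :
    (∃ (F : Type) (_ : Field F) (_ : Fintype F),
        Nonempty (G ≃* Matrix.ProjectiveSpecialLinearGroup (Fin 2) F)) ∨ Cfsg.IsSuzuki G := by
  classical
  haveI : Fact (Nat.Prime 2) := ⟨Nat.prime_two⟩
  obtain ⟨S⟩ : Nonempty (Sylow 2 G) := inferInstance
  have hS1 : (S : Subgroup G) ≠ ⊥ := fun e => by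
    have := S.dvd_card_of_dvd_card hev
    rw [e, card_bot] at this
    omega
  have hJ1 : JT (S : Subgroup G) ≠ ⊥ := JT_ne_bot S.2 hS1
  have hJ2 : IsPGroup 2 (JT (S : Subgroup G)) := S.2.to_le (JT_le _)
  set M := normalizer ((JT (S : Subgroup G) : Subgroup G) : Set G) with hM
  haveI := hls _ hJ1 hJ2
  have hSM : (S : Subgroup G) ≤ M := le_normalizer.trans
    (CfsgLib.PLocal.normalizer_le_normalizer_thompsonSubgroupOf 2 _)
  have hMtop : M ≠ ⊤ := by
    intro e
    haveI := normalizer_eq_top_iff.1 e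
    rcases (inferInstance : (JT (S : Subgroup G)).Normal).eq_bot_or_eq_top with h | h
    · exact hJ1 h
    · have hp : IsPGroup 2 G := (h ▸ hJ2).of_equiv Subgroup.topEquiv
      haveI : Nontrivial G := IsSimpleGroup.toNontrivial
      haveI := hp.center_nontrivial
      rcases (inferInstance : (center G).Normal).eq_bot_or_eq_top with h' | h'
      · exact absurd h' ((center G).nontrivial_iff_ne_bot.1 inferInstance)
      · exact hna ⟨⟨fun a b => (Subgroup.mem_center_iff.1 (h' ▸ mem_top a) b).symm⟩⟩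
  -- maximal two-subgroups of `M`
  have hSmax : ∀ P : Subgroup G, IsPGroup 2 P → P ≤ M → (S : Subgroup G) ≤ P →
      P = (S : Subgroup G) := fun P hP _ hle => S.3 hP hle
  -- an involution of `M` only lies in Sylow subgroups with the same Thompson subgroup
  have hin : ∀ t ∈ M, orderOf t = 2 → ∀ R : Sylow 2 G, t ∈ R →
      JT (R : Subgroup G) = JT (S : Subgroup G) := by
    intro t htM ht R htR
    obtain ⟨Z, htZ, hZM, hZ, hZmax⟩ := exists_maximal_two_subgroup (T := zpowers t) (N := M)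
      (IsPGroup.of_card (p := 2) (n := 1) (by rw [Nat.card_zpowers, ht, pow_one]))
      (zpowers_le.2 htM)
    obtain ⟨m, hm, hmZ⟩ := exists_conj_maximal S.2 hSM hSmax hZ hZM hZmax
    let S' : Sylow 2 G := m • S
    have hS' : (S' : Subgroup G) = Z := by
      rw [← hmZ, Sylow.coe_subgroup_smul]
      rfl
    refine (hno R S' ?_).trans ?_
    · intro e
      have : t ∈ (R : Subgroup G) ⊓ S' := ⟨htR, hS' ▸ htZ (mem_zpowers t)⟩
      rw [e, mem_bot] at this
      rw [this, orderOf_one] at ht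
      omega
    · rw [hS', ← hmZ, ← JT_conj]
      exact mem_normalizer_iff_map_conj_eq.1 hm
  have hSE : ∀ g : G, ∀ t ∈ M, orderOf t = 2 → g * t * g⁻¹ ∈ M → g ∈ M := by
    intro g t htM ht hgt
    obtain ⟨R, hR⟩ := (IsPGroup.of_card (p := 2) (n := 1) (G := zpowers t)
      (by rw [Nat.card_zpowers, ht, pow_one])).exists_le_sylow
    let R' : Sylow 2 G := g • R
    have hR' : (R' : Subgroup G) = (R : Subgroup G).map (MulAut.conj g).toMonoidHom := by
      rw [Sylow.coe_subgroup_smul]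
      rfl
    have h1 := hin t htM ht R (hR (mem_zpowers t))
    have h2 := hin (g * t * g⁻¹) hgt (by rw [CfsgLib.Small.orderOf_conj_eq, ht]) R'
      (by show g * t * g⁻¹ ∈ (R' : Subgroup G); rw [hR']; exact ⟨t, hR (mem_zpowers t), rfl⟩)
    rw [hR', ← JT_conj, h1] at h2
    exact mem_normalizer_iff_map_conj_eq.2 h2
  -- an involution in the centre of `S`
  obtain ⟨z, hzS, hzo, hzc⟩ : ∃ z ∈ (S : Subgroup G), orderOf z = 2 ∧
      ∀ w ∈ (S : Subgroup G), w * z = z * w := by
    haveI : Nontrivial (S : Subgroup G) := (Subgroup.nontrivial_iff_ne_bot _).2 hS1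
    haveI := S.2.center_nontrivial
    obtain ⟨k, hk⟩ := IsPGroup.iff_card.1 (S.2.to_subgroup (center (S : Subgroup G)))
    have hk0 : k ≠ 0 := fun e => by
      rw [e, pow_zero] at hk
      have := Finite.one_lt_card (α := center (S : Subgroup G))
      omega
    obtain ⟨c, hc⟩ := exists_prime_orderOf_dvd_card' (G := center (S : Subgroup G)) 2
      (hk ▸ dvd_pow_self 2 hk0)
    exact ⟨((c : (S : Subgroup G)) : G), c.1.2, by rw [Subgroup.orderOf_coe, Subgroup.orderOf_coe, hc],
      fun w hw => congrArg Subtype.val (mem_center_iff.1 c.2 ⟨w, hw⟩)⟩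
  have hzM : z ∈ M := hSM hzS
  -- involutions of `M` are conjugate in `M`
  obtain ⟨g₀, hg₀⟩ : ∃ g : G, g ∉ M := by
    by_contra h
    push Not at h
    exact hMtop ((eq_top_iff' _).2 h)
  have hconjG : ∀ u ∈ M, orderOf u = 2 → ∀ v, v ∉ M → orderOf v = 2 → ∃ g : G, g * u * g⁻¹ = v := by
    intro u hu huo v hv hvo
    rcases Nat.even_or_odd (orderOf (u * v)) with he | ho
    · exfalso
      obtain ⟨hwo, hwu, hwv⟩ := CfsgLib.Small.half_pow_spec huo hvo he
      set w := (u * v) ^ (orderOf (u * v) / 2)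
      have hwM : w ∈ M := hSE w u hu huo (by rw [hwu.eq, mul_inv_cancel_right]; exact hu)
      exact hv (hSE v w hwM hwo (by rw [← hwv.eq, mul_inv_cancel_right]; exact hwM))
    · obtain ⟨k, hk⟩ := CfsgLib.Small.conj_pow_eq_of_odd huo hvo ho
      exact ⟨_, hk⟩
  have hconjM : ∀ u ∈ M, orderOf u = 2 → ∃ m ∈ M, m * z * m⁻¹ = u := by
    intro u hu huo
    have hv : g₀ * z * g₀⁻¹ ∉ M := fun h => hg₀ (hSE g₀ z hzM hzo h)
    obtain ⟨g, hgu⟩ := hconjG u hu huo _ hv (by rw [CfsgLib.Small.orderOf_conj_eq, hzo])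
    refine ⟨g⁻¹ * g₀, hSE _ z hzM hzo ?_, ?_⟩ <;>
      rw [show g⁻¹ * g₀ * z * (g⁻¹ * g₀)⁻¹ = g⁻¹ * (g₀ * z * g₀⁻¹) * g by group, ← hgu,
        show g⁻¹ * (g * u * g⁻¹) * g = u by group]
    exact hu
  -- `M` is not a two-group
  have hM2 : ¬ IsPGroup 2 M := by
    intro h2
    obtain ⟨N, hN, hcompl, -⟩ := CfsgLib.Characters.exists_frobenius_kernel M fun g hgM x hx hgx => by
      by_contra hx1
      obtain ⟨j, hj⟩ := exists_two_pow_of_mem h2 hx
      have hj0 : j ≠ 0 := fun e => hx1 (orderOf_eq_one_iff.1 (by rw [hj, e, pow_zero]))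
      refine hgM (hSE g (x ^ (orderOf x / 2)) (pow_mem hx _)
        (orderOf_pow_orderOf_div (orderOf_pos x).ne' (hj ▸ dvd_pow_self 2 hj0)) ?_)
      rw [← conj_pow]
      exact pow_mem hgx _
    rcases hN.eq_bot_or_eq_top with rfl | rfl
    · exact hMtop (isComplement'_bot_left.1 hcompl)
    · have := isComplement'_top_left.1 hcompl
      rw [this, mem_bot] at hzM
      rw [hzM, orderOf_one] at hzo
      omega
  obtain ⟨L⟩ := exists_localIn hg (N := M) (D := JT (S : Subgroup G)) le_normalizer le_rfl hJ2 hJ1 hM2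
  set x := L.x
  set s := L.s
  have hxo : orderOf x = s := L.order
  have hsp : s.Prime := L.prime
  have hs2 : s ≠ 2 := L.ne_two
  haveI := Fact.mk hsp
  -- all involutions lie in `L.K`, so `M = K⟨x⟩` and `K = S`
  have hallK : ∀ u ∈ M, orderOf u = 2 → u ∈ L.K := by
    have hJK : JT (S : Subgroup G) ≤ L.K :=
      L.le_K _ hJ2 le_normalizer x L.mem (hxo.symm ▸ hsp) (hxo.symm ▸ hs2) L.mem
    obtain ⟨u0, hu0, hu0o⟩ : ∃ u ∈ JT (S : Subgroup G), orderOf u = 2 := by
      obtain ⟨k, hk⟩ := IsPGroup.iff_card.1 hJ2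
      have hk0 : k ≠ 0 := fun e => hJ1 (card_eq_one.1 (by rw [hk, e, pow_zero]))
      obtain ⟨c, hc⟩ := exists_prime_orderOf_dvd_card' (G := JT (S : Subgroup G)) 2
        (hk ▸ dvd_pow_self 2 hk0)
      exact ⟨c, c.2, by rw [Subgroup.orderOf_coe, hc]⟩
    intro u hu huo
    obtain ⟨m₀, hm₀, e₀⟩ := hconjM u0 (le_normalizer hu0) hu0o
    obtain ⟨m, hm, e⟩ := hconjM u hu huo
    have : u = (m * m₀⁻¹) * u0 * (m * m₀⁻¹)⁻¹ := by rw [← e, ← e₀]; group
    rw [this]
    exact (mem_normalizer_iff.1 (L.le_normalizer (mul_mem hm (inv_mem hm₀))) u0).1 (hJK hu0)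
  have hMeq : M = L.K ⊔ zpowers x := L.eq_sup hallK
  have hKx : ∀ y ∈ L.K, y ∈ zpowers x → y = 1 := by
    intro y hy hyx
    obtain ⟨j, hj⟩ := exists_two_pow_of_mem L.two hy
    refine orderOf_eq_one_iff.1 (Nat.eq_one_of_dvd_coprimes
      (((Nat.coprime_primes Nat.prime_two hsp).2 hs2.symm).pow_left j) hj.dvd ?_)
    rw [← hxo, ← Nat.card_zpowers x, ← Nat.card_zpowers y]
    exact card_dvd_of_le (zpowers_le.2 hyx)
  have hxn : zpowers x ≤ normalizer (L.K : Set G) := zpowers_le.2 (L.le_normalizer L.mem)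
  have hmemM : ∀ m ∈ M, ∃ k ∈ L.K, ∃ e ∈ zpowers x, k * e = m := by
    intro m hm
    rw [hMeq, ← SetLike.mem_coe, coe_mul_of_right_le_normalizer_left L.K (zpowers x) hxn] at hm
    exact hm
  have hcardM : Nat.card M = Nat.card L.K * s := by
    let f : L.K × zpowers x → M := fun p => ⟨(p.1 : G) * p.2,
      hMeq.ge (mul_mem (mem_sup_left p.1.2) (mem_sup_right p.2.2))⟩
    have hf : Function.Bijective f := by
      constructor
      · rintro ⟨k, e⟩ ⟨k', e'⟩ h
        have h' : (k : G) * e = k' * e' := congrArg Subtype.val h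
        have h1 : (k' : G)⁻¹ * k = e' * (e : G)⁻¹ := by
          calc (k' : G)⁻¹ * k = (k' : G)⁻¹ * ((k : G) * e) * (e : G)⁻¹ := by group
            _ = e' * (e : G)⁻¹ := by rw [h']; group
        have h2 := hKx _ (mul_mem (inv_mem k'.2) k.2) (h1 ▸ mul_mem e'.2 (inv_mem e.2))
        have hk : k = k' := Subtype.ext (inv_mul_eq_one.1 h2).symm
        subst hk
        have he : (e : G) = e' := mul_left_cancel h'
        rw [Subtype.ext he]
      · rintro ⟨m, hm⟩
        obtain ⟨k, hk, e, he, rfl⟩ := hmemM m hm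
        exact ⟨(⟨k, hk⟩, ⟨e, he⟩), rfl⟩
    rw [← Nat.card_eq_of_bijective f hf, Nat.card_prod, Nat.card_zpowers, hxo]
  have hSK : (S : Subgroup G) = L.K := by
    have hle : L.K ≤ S := by
      have h2 : IsPGroup 2 ↥(L.K ⊔ (S : Subgroup G)) :=
        L.two.to_sup_of_normal_left' S.2 (hSM.trans L.le_normalizer)
      exact le_sup_left.trans (hSmax _ h2 (sup_le L.le hSM) le_sup_right).le
    refine (eq_of_le_of_card_ge hle ?_).symm
    obtain ⟨j, hj⟩ := IsPGroup.iff_card.1 S.2
    have hd : Nat.card (S : Subgroup G) ∣ Nat.card L.K * s := hcardM ▸ card_dvd_of_le hSM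
    rw [hj] at hd ⊢
    exact Nat.le_of_dvd Nat.card_pos
      ((((Nat.coprime_primes Nat.prime_two hsp).2 hs2.symm).pow_left j).dvd_of_dvd_mul_right hd)
  have hSn : ∀ m ∈ M, ∀ w ∈ (S : Subgroup G), m * w * m⁻¹ ∈ (S : Subgroup G) := fun m hm w hw => by
    rw [hSK] at hw ⊢
    exact (mem_normalizer_iff.1 (L.le_normalizer hm) w).1 hw
  -- every involution of `M` is central in `S` and a conjugate of `z` by a power of `x`
  have hinvc : ∀ u ∈ M, orderOf u = 2 → ∀ w ∈ (S : Subgroup G), w * u = u * w := by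
    intro u hu huo w hw
    obtain ⟨m, hm, rfl⟩ := hconjM u hu huo
    have := hzc _ (by simpa using hSn m⁻¹ (inv_mem hm) w hw)
    calc w * (m * z * m⁻¹) = m * ((m⁻¹ * w * m) * z) * m⁻¹ := by group
      _ = m * (z * (m⁻¹ * w * m)) * m⁻¹ := by rw [this]
      _ = m * z * m⁻¹ * w := by group
  have hinv_eq : ∀ u ∈ M, orderOf u = 2 → ∃ e ∈ zpowers x, e * z * e⁻¹ = u := by
    intro u hu huo
    obtain ⟨m, hm, rfl⟩ := hconjM u hu huo
    obtain ⟨k, hk, e, he, rfl⟩ := hmemM m hm
    refine ⟨e, he, ?_⟩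
    have heM : e ∈ M := zpowers_le.2 L.mem he
    have := hinvc (e * z * e⁻¹) (mul_mem (mul_mem heM hzM) (inv_mem heM))
      (by rw [CfsgLib.Small.orderOf_conj_eq, hzo]) k (hSK ▸ hk)
    calc e * z * e⁻¹ = k * (e * z * e⁻¹) * k⁻¹ := by rw [this, mul_inv_cancel_right]
      _ = k * e * z * (k * e)⁻¹ := by group
  have hinvcard : Nat.card {u : G // u ∈ M ∧ orderOf u = 2} = s := by
    let f : zpowers x → {u : G // u ∈ M ∧ orderOf u = 2} := fun e =>
      ⟨e * z * (e : G)⁻¹, mul_mem (mul_mem (zpowers_le.2 L.mem e.2) hzM) (inv_mem (zpowers_le.2 L.mem e.2)),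
        by rw [CfsgLib.Small.orderOf_conj_eq, hzo]⟩
    have hf : Function.Bijective f := by
      constructor
      · intro e e' h
        have h' : (e : G) * z * (e : G)⁻¹ = e' * z * (e' : G)⁻¹ := congrArg Subtype.val h
        by_contra hne
        set d := (e' : G)⁻¹ * e with hd
        have hdx : d ∈ zpowers x := mul_mem (inv_mem e'.2) e.2
        have hd1 : d ≠ 1 := fun h1 => hne (Subtype.ext (inv_mul_eq_one.1 h1).symm)
        have hdo : orderOf d = s := by
          refine (hsp.eq_one_or_self_of_dvd _ ?_).resolve_left fun h1 => hd1 (orderOf_eq_one_iff.1 h1)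
          rw [← hxo, ← Nat.card_zpowers x, ← Nat.card_zpowers d]
          exact card_dvd_of_le (zpowers_le.2 hdx)
        refine hg.false_of_commute hsp Nat.prime_two hs2 hdo hzo (mul_inv_eq_iff_eq_mul.1 ?_)
        calc d * z * d⁻¹ = (e' : G)⁻¹ * ((e : G) * z * (e : G)⁻¹) * e' := by rw [hd]; group
          _ = z := by rw [h']; group
      · rintro ⟨u, hu, huo⟩
        obtain ⟨e, he, rfl⟩ := hinv_eq u hu huo
        exact ⟨⟨e, he⟩, rfl⟩
    rw [← Nat.card_eq_of_bijective f hf, Nat.card_zpowers, hxo]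
  -- commutators of `M` lie in `S`
  have hcommS : ∀ h ∈ M, h * x * h⁻¹ * x⁻¹ ∈ (S : Subgroup G) := by
    intro h hh
    obtain ⟨k, hk, e, ⟨i, rfl⟩, rfl⟩ := hmemM h hh
    rw [hSK]
    show k * x ^ i * x * (k * x ^ i)⁻¹ * x⁻¹ ∈ L.K
    rw [show k * x ^ i * x * (k * x ^ i)⁻¹ * x⁻¹ = k * (x * k⁻¹ * x⁻¹) by group]
    exact mul_mem hk ((mem_normalizer_iff.1 (L.le_normalizer L.mem) _).1 (inv_mem hk))
  have hxS : ∀ w ∈ (S : Subgroup G), w ∈ zpowers x → w = 1 := fun w hw hwx => hKx w (hSK ▸ hw) hwx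
  -- the permutation representation
  let Ω := G ⧸ M
  haveI : Fintype Ω := Fintype.ofFinite Ω
  haveI : Fintype G := Fintype.ofFinite G
  let α : Ω := ((1 : G) : Ω)
  have hstab : ∀ g : G, g • α = α ↔ g ∈ M := by
    intro g
    show ((g * 1 : G) : G ⧸ M) = ((1 : G) : G ⧸ M) ↔ g ∈ M
    rw [QuotientGroup.eq, mul_one, mul_one, inv_mem_iff]
  have hstab' : ∀ g y : G, y • ((g : G) : Ω) = ((g : G) : Ω) ↔ g⁻¹ * y * g ∈ M := by
    intro g y
    show ((y * g : G) : G ⧸ M) = ((g : G) : G ⧸ M) ↔ g⁻¹ * y * g ∈ M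
    rw [QuotientGroup.eq, ← inv_mem_iff]
    simp only [mul_inv_rev, inv_inv, mul_assoc]
  -- an involution fixes exactly one point
  have hfix_unique : ∀ u : G, orderOf u = 2 → ∀ β γ : Ω, u • β = β → u • γ = γ → β = γ := by
    intro u hu β γ hβ hγ
    obtain ⟨g, rfl⟩ := QuotientGroup.mk_surjective β
    obtain ⟨h, rfl⟩ := QuotientGroup.mk_surjective γ
    rw [hstab'] at hβ hγ
    refine QuotientGroup.eq.2 ?_
    have := hSE (h⁻¹ * g) (g⁻¹ * u * g) hβ
      (by simpa using (CfsgLib.Small.orderOf_conj_eq g⁻¹ u).trans hu)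
      (by rw [show h⁻¹ * g * (g⁻¹ * u * g) * (h⁻¹ * g)⁻¹ = h⁻¹ * u * h by group]; exact hγ)
    simpa using inv_mem this
  have hfix_exists : ∀ u : G, orderOf u = 2 → ∃ β : Ω, u • β = β := by
    intro u hu
    by_cases huM : u ∈ M
    · exact ⟨α, (hstab u).2 huM⟩
    · obtain ⟨g, hgu⟩ := hconjG z hzM hzo u huM hu
      refine ⟨(g : Ω), (hstab' g u).2 ?_⟩
      rw [← hgu, show g⁻¹ * (g * z * g⁻¹) * g = z by group]
      exact hzM
  have hfixcard : ∀ β : Ω, Nat.card {u : G // u • β = β ∧ orderOf u = 2} = s := by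
    intro β
    obtain ⟨g, rfl⟩ := QuotientGroup.mk_surjective β
    rw [← hinvcard]
    refine Nat.card_congr ((MulAut.conj g⁻¹).toEquiv.subtypeEquiv fun u => ?_)
    simp only [MulEquiv.toEquiv_eq_coe, MulEquiv.coe_toEquiv, MulEquiv.orderOf_eq]
    rw [hstab']
    simp [MulAut.conj_apply]
  -- two-point stabilisers have order at most `s`
  have hpair_dvd : ∀ β : Ω, β ≠ α →
      Nat.card ↥(M ⊓ stabilizer G β) = 1 ∨ Nat.card ↥(M ⊓ stabilizer G β) = s := by
    intro β hβ
    have hodd : ¬ 2 ∣ Nat.card ↥(M ⊓ stabilizer G β) := by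
      intro hd
      obtain ⟨u, hu⟩ := exists_prime_orderOf_dvd_card' (G := ↥(M ⊓ stabilizer G β)) 2 hd
      rw [← Subgroup.orderOf_coe] at hu
      exact hβ (hfix_unique u hu β α u.2.2 ((hstab _).2 u.2.1))
    obtain ⟨j, hj⟩ := IsPGroup.iff_card.1 L.two
    have hd : Nat.card ↥(M ⊓ stabilizer G β) ∣ 2 ^ j * s :=
      hj ▸ hcardM ▸ card_dvd_of_le inf_le_left
    exact hsp.eq_one_or_self_of_dvd _ (((Nat.prime_two.coprime_iff_not_dvd.2 hodd).pow_left j).symm
      |>.dvd_of_dvd_mul_left hd)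
  -- involutions outside `M` moving `α` to `β`
  let A : Ω → Finset G := fun β => Finset.univ.filter fun u => u • α = β ∧ orderOf u = 2
  have hA_le : ∀ β : Ω, β ≠ α → (A β).card ≤ Nat.card ↥(M ⊓ stabilizer G β) := by
    intro β hβ
    rcases (A β).eq_empty_or_nonempty with he | ⟨u₀, hu₀⟩
    · rw [he, Finset.card_empty]; exact zero_le
    simp only [A, Finset.mem_filter, Finset.mem_univ, true_and] at hu₀
    have hswap : ∀ u ∈ A β, u • α = β ∧ u • β = α := by
      intro u hu
      simp only [A, Finset.mem_filter, Finset.mem_univ, true_and] at hu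
      refine ⟨hu.1, ?_⟩
      rw [← hu.1, smul_smul, CfsgLib.Small.mul_self_of_orderOf_two hu.2, one_smul]
    have hu₀' := hswap u₀ (by simp [A, hu₀])
    rw [← Fintype.card_coe, ← Nat.card_eq_fintype_card]
    refine Nat.card_le_card_of_injective (fun u => (⟨(u : G) * u₀, ?_⟩ : ↥(M ⊓ stabilizer G β))) ?_
    · obtain ⟨hu1, hu2⟩ := hswap u u.2
      refine Subgroup.mem_inf.2 ⟨(hstab _).1 ?_, ?_⟩
      · rw [mul_smul, hu₀'.1, hu2]
      · rw [mem_stabilizer_iff, mul_smul, hu₀'.2, hu1]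
    · intro u u' h
      exact Subtype.ext (mul_right_cancel (congrArg Subtype.val h))
  have hsum : ∑ β ∈ Finset.univ.erase α, (A β).card = (Fintype.card Ω - 1) * s := by
    have h1 : ∀ β ∈ (Finset.univ : Finset Ω),
        (Finset.univ.filter fun u : G => u • β = β ∧ orderOf u = 2).card = s := by
      intro β _
      rw [← hfixcard β, Nat.card_eq_fintype_card, Fintype.card_subtype]
    have h2 : (Finset.univ.filter fun u : G => orderOf u = 2).card = Fintype.card Ω * s := by
      rw [show (Finset.univ.filter fun u : G => orderOf u = 2) =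
        Finset.univ.biUnion (fun β : Ω => Finset.univ.filter fun u : G => u • β = β ∧ orderOf u = 2) by
        ext u
        simp only [Finset.mem_filter, Finset.mem_univ, true_and, Finset.mem_biUnion]
        exact ⟨fun hu => (hfix_exists u hu).imp fun β hβ => ⟨hβ, hu⟩, fun ⟨β, _, hu⟩ => hu⟩]
      rw [Finset.card_biUnion, Finset.sum_congr rfl h1, Finset.sum_const, Finset.card_univ, smul_eq_mul]
      intro β _ γ _ hne
      refine Finset.disjoint_filter.2 fun u _ hu hu' => hne (hfix_unique u hu.2 β γ hu.1 hu'.1)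
    have h3 : (Finset.univ.filter fun u : G => orderOf u = 2).card =
        ∑ β ∈ (Finset.univ : Finset Ω), (A β).card := by
      rw [Finset.card_eq_sum_card_fiberwise (f := fun u : G => u • α) (t := Finset.univ)
        (fun _ _ => Finset.mem_univ _)]
      refine Finset.sum_congr rfl fun β _ => congrArg Finset.card ?_
      ext u
      simp only [A, Finset.mem_filter, Finset.mem_univ, true_and]
      tauto
    have h4 : (A α).card = s := h1 α (Finset.mem_univ α)
    rw [h2, ← Finset.add_sum_erase _ _ (Finset.mem_univ α), h4] at h3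
    rw [Nat.sub_mul, one_mul]
    omega
  have hAs : ∀ β : Ω, β ≠ α → (A β).card = s ∧ Nat.card ↥(M ⊓ stabilizer G β) = s := by
    have hle : ∀ β ∈ Finset.univ.erase α, (A β).card ≤ s := fun β hβ => by
      refine (hA_le β (Finset.ne_of_mem_erase hβ)).trans ?_
      rcases hpair_dvd β (Finset.ne_of_mem_erase hβ) with h | h <;> rw [h]
      exact hsp.one_lt.le
    have heq := (Finset.sum_eq_sum_iff_of_le hle).1 (by
      rw [hsum, Finset.sum_const, Finset.card_erase_of_mem (Finset.mem_univ α), Finset.card_univ,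
        smul_eq_mul])
    intro β hβ
    have h := heq β (Finset.mem_erase.2 ⟨hβ, Finset.mem_univ β⟩)
    refine ⟨h, (hpair_dvd β hβ).resolve_left fun h1 => ?_⟩
    have := hA_le β hβ
    have := hsp.one_lt
    omega
  -- pointwise consequences for every pair
  have hpairs : ∀ γ δ : Ω, γ ≠ δ → Nat.card ↥(stabilizer G γ ⊓ stabilizer G δ) = s ∧
      ∃ B : Finset G, B.card = s ∧ ∀ u ∈ B, orderOf u = 2 ∧ u • γ = δ ∧ u • δ = γ := by
    intro γ δ hne
    obtain ⟨g, rfl⟩ := QuotientGroup.mk_surjective γ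
    have hgα : g⁻¹ • ((g : G) : Ω) = α := by
      show ((g⁻¹ * g : G) : G ⧸ M) = ((1 : G) : G ⧸ M)
      rw [inv_mul_cancel]
    have hβ : g⁻¹ • δ ≠ α := fun e => hne ((MulAction.injective g⁻¹) (hgα.trans e.symm))
    obtain ⟨hA1, hD1⟩ := hAs _ hβ
    refine ⟨?_, (A (g⁻¹ • δ)).image (MulAut.conj g), ?_, ?_⟩
    · rw [← hD1]
      refine Nat.card_congr ((MulAut.conj g⁻¹).toEquiv.subtypeEquiv fun y => ?_)
      simp only [MulEquiv.toEquiv_eq_coe, MulEquiv.coe_toEquiv, MulAut.conj_apply, inv_inv, mem_inf,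
        mem_stabilizer_iff, hstab', mul_smul, smul_inv_smul, smul_left_cancel_iff]
    · rw [Finset.card_image_of_injective _ (MulAut.conj g).injective, hA1]
    · intro v hv
      simp only [A, Finset.mem_image, Finset.mem_filter, Finset.mem_univ, true_and] at hv
      obtain ⟨u, ⟨hu, huo⟩, rfl⟩ := hv
      refine ⟨by rw [MulEquiv.orderOf_eq, huo], ?_, ?_⟩ <;> rw [MulAut.conj_apply, mul_smul, mul_smul]
      · rw [hgα, hu, smul_inv_smul]
      · rw [← hu, smul_smul u u, CfsgLib.Small.mul_self_of_orderOf_two huo, one_smul]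
        show ((g * 1 : G) : G ⧸ M) = ((g : G) : G ⧸ M)
        rw [mul_one]
  -- the fixed points of `x`
  have hEα : x • α = α := (hstab x).2 L.mem
  have hfixx : ∀ γ : Ω, x • γ = γ → ∀ e ∈ zpowers x, e • γ = γ := by
    intro γ hγ e he
    exact (zpowers_le.2 (show x ∈ stabilizer G γ from hγ)) he
  have hpairE : ∀ γ δ : Ω, γ ≠ δ → x • γ = γ → x • δ = δ →
      zpowers x = stabilizer G γ ⊓ stabilizer G δ := by
    intro γ δ hne hγ hδ
    refine eq_of_le_of_card_ge (zpowers_le.2 (Subgroup.mem_inf.2 ⟨hγ, hδ⟩)) ?_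
    rw [(hpairs γ δ hne).1, Nat.card_zpowers, hxo]
  let F : Finset Ω := Finset.univ.filter fun γ => x • γ = γ
  have hmemF : ∀ γ, γ ∈ F ↔ x • γ = γ := fun γ => by simp [F]
  have hαF : α ∈ F := (hmemF α).2 hEα
  -- a conjugate by an element of `M` of any point is fixed by `x`
  have hmove : ∀ β : Ω, β ≠ α → ∃ m ∈ M, m • β ∈ F ∧ m • β ≠ α := by
    intro β hβ
    obtain ⟨d, hd⟩ := exists_prime_orderOf_dvd_card' (G := ↥(M ⊓ stabilizer G β)) s
      (by rw [(hAs β hβ).2])
    rw [← Subgroup.orderOf_coe] at hd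
    let P : Sylow s M := Classical.arbitrary _
    -- conjugate `⟨d⟩` to `⟨x⟩`
    obtain ⟨P₁, hP₁⟩ := (IsPGroup.of_card (p := s) (n := 1) (G := zpowers (⟨d, d.2.1⟩ : M))
      (by rw [Nat.card_zpowers, ← Subgroup.orderOf_coe, pow_one]; exact hd)).exists_le_sylow
    obtain ⟨P₂, hP₂⟩ := (IsPGroup.of_card (p := s) (n := 1) (G := zpowers (⟨x, L.mem⟩ : M))
      (by rw [Nat.card_zpowers, Subgroup.orderOf_mk, pow_one]; exact hxo)).exists_le_sylow
    have hPcard : ∀ R : Sylow s M, Nat.card (R : Subgroup M) ≤ s := by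
      intro R
      obtain ⟨k, hk⟩ := IsPGroup.iff_card.1 R.2
      obtain ⟨j, hj⟩ := IsPGroup.iff_card.1 L.two
      have hd' : s ^ k ∣ 2 ^ j * s := by
        rw [← hk, ← hj, ← hcardM]; exact card_subgroup_dvd_card _
      have := (((Nat.coprime_primes hsp Nat.prime_two).2 hs2).pow k j).dvd_of_dvd_mul_left hd'
      rw [hk]
      exact Nat.le_of_dvd hsp.pos this
    have e2 : (P₂ : Subgroup M) = zpowers (⟨x, L.mem⟩ : M) :=
      (eq_of_le_of_card_ge hP₂ (by rw [Nat.card_zpowers, Subgroup.orderOf_mk, hxo]; exact hPcard P₂)).symm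
    obtain ⟨m, hm⟩ := MulAction.exists_smul_eq M P₁ P₂
    have hin : m * (⟨d, d.2.1⟩ : M) * m⁻¹ ∈ (P₂ : Subgroup M) := by
      rw [← hm, Sylow.coe_subgroup_smul]
      exact ⟨_, hP₁ (mem_zpowers _), rfl⟩
    rw [e2] at hin
    obtain ⟨i, hi⟩ := hin
    have hi' : x ^ i = (m : G) * d * (m : G)⁻¹ := by simpa using congrArg Subtype.val hi
    refine ⟨m, m.2, (hmemF _).2 ?_, fun e => hβ ?_⟩
    · -- `x` is a power of `m d m⁻¹`
      have hne : (⟨x ^ i, ⟨i, rfl⟩⟩ : zpowers x) ≠ 1 := fun h1 => by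
        have h1' : x ^ i = 1 := congrArg Subtype.val h1
        rw [h1'] at hi'
        rw [conj_eq_one_iff.1 hi'.symm, orderOf_one] at hd
        exact hsp.one_lt.ne hd
      obtain ⟨l, hl⟩ := mem_zpowers_of_prime_card (g' := (⟨x, mem_zpowers x⟩ : zpowers x))
        (by rw [Nat.card_zpowers, hxo]) hne
      have hl' : (x ^ i) ^ l = x := by simpa using congrArg Subtype.val hl
      have hfix : x ^ i • ((m : G) • β) = (m : G) • β := by
        rw [hi', mul_smul, mul_smul, inv_smul_smul, show (d : G) • β = β from d.2.2]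
      rw [← hl']
      exact zpowers_le.2 (show x ^ i ∈ stabilizer G ((m : G) • β) from hfix) ⟨l, rfl⟩
    · exact (MulAction.injective (m : G)) (e.trans ((hstab _).2 m.2).symm)
  obtain ⟨γ₁, hγ₁F, hγ₁⟩ : ∃ γ ∈ F, γ ≠ α := by
    have : (g₀ : Ω) ≠ α := fun e => hg₀ (by simpa using inv_mem (QuotientGroup.eq.1 e))
    obtain ⟨m, -, h1, h2⟩ := hmove _ this
    exact ⟨_, h1, h2⟩
  -- involutions inverting `x`
  let U : Finset G := Finset.univ.filter fun u => orderOf u = 2 ∧ u * x * u⁻¹ = x⁻¹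
  set C := centralizer ({x} : Set G) with hC
  have hUC : U.card ≤ Nat.card C := by
    rcases U.eq_empty_or_nonempty with he | ⟨u₀, hu₀⟩
    · rw [he, Finset.card_empty]; exact zero_le
    simp only [U, Finset.mem_filter, Finset.mem_univ, true_and] at hu₀
    rw [← Fintype.card_coe, ← Nat.card_eq_fintype_card]
    refine Nat.card_le_card_of_injective (fun u => (⟨(u : G) * u₀, ?_⟩ : C)) ?_
    · have hu := u.2
      simp only [U, Finset.mem_filter, Finset.mem_univ, true_and] at hu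
      refine mem_centralizer_singleton_iff.2 (mul_inv_eq_iff_eq_mul.1 ?_)
      calc (u : G) * u₀ * x * ((u : G) * u₀)⁻¹ = u * (u₀ * x * u₀⁻¹) * (u : G)⁻¹ := by group
        _ = x := by rw [hu₀.2, ← conj_inv, hu.2, inv_inv]
    · intro u u' h
      exact Subtype.ext (mul_right_cancel (congrArg Subtype.val h))
  have hswapU : ∀ γ ∈ F, ∀ δ ∈ F, γ ≠ δ → ∃ B : Finset G, B.card = s ∧
      ∀ u ∈ B, u ∈ U ∧ u • γ = δ := by
    intro γ hγ δ hδ hne
    obtain ⟨hcard, B, hB, hBu⟩ := hpairs γ δ hne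
    have hE := hpairE γ δ hne ((hmemF γ).1 hγ) ((hmemF δ).1 hδ)
    refine ⟨B, hB, fun u hu => ⟨?_, (hBu u hu).2.1⟩⟩
    obtain ⟨huo, h1, h2⟩ := hBu u hu
    simp only [U, Finset.mem_filter, Finset.mem_univ, true_and]
    refine ⟨huo, hg.inverts_generator hsp hs2 hxo huo ?_⟩
    rw [hE, Subgroup.mem_inf, mem_stabilizer_iff, mem_stabilizer_iff, mul_smul, mul_smul, mul_smul,
      mul_smul, CfsgLib.Small.inv_eq_self_of_orderOf_two huo, h1, h2, (hmemF δ).1 hδ,
      (hmemF γ).1 hγ, h1, h2]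
    exact ⟨rfl, rfl⟩
  have hUF : ∀ u ∈ U, ∀ γ ∈ F, u • γ ∈ F ∧ u • γ ≠ γ := by
    intro u hu γ hγ
    simp only [U, Finset.mem_filter, Finset.mem_univ, true_and] at hu
    refine ⟨(hmemF _).2 ?_, fun hfix => ?_⟩
    · have h1 : u * x⁻¹ * u⁻¹ = x := by rw [← conj_inv, hu.2, inv_inv]
      have h2 : x⁻¹ • γ = γ := by rw [inv_smul_eq_iff, (hmemF γ).1 hγ]
      calc x • (u • γ) = (u * x⁻¹ * u⁻¹) • (u • γ) := by rw [h1]
        _ = u • γ := by rw [mul_smul, mul_smul, inv_smul_smul, h2]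
    · -- an involution fixing a fixed point of `x` lies in the core and centralises `x`
      obtain ⟨g, rfl⟩ := QuotientGroup.mk_surjective γ
      have hxg : g⁻¹ * x * g ∈ M := (hstab' g x).1 ((hmemF _).1 hγ)
      have hug : g⁻¹ * u * g ∈ M := (hstab' g u).1 hfix
      have huo : orderOf (g⁻¹ * u * g) = 2 := by
        simpa using (CfsgLib.Small.orderOf_conj_eq g⁻¹ u).trans hu.1
      have huS : g⁻¹ * u * g ∈ (S : Subgroup G) := hSK ▸ hallK _ hug huo
      have hw : g⁻¹ * x⁻¹ ^ 2 * g ∈ (S : Subgroup G) := by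
        have := mul_mem huS (hSn _ hxg _ (inv_mem huS))
        have e : (g⁻¹ * u * g) * ((g⁻¹ * x * g) * (g⁻¹ * u * g)⁻¹ * (g⁻¹ * x * g)⁻¹) =
            g⁻¹ * ((u * x * u⁻¹) * x⁻¹) * g := by group
        rwa [e, hu.2, ← pow_two] at this
      obtain ⟨j, hj⟩ := exists_two_pow_of_mem S.2 hw
      have ho : orderOf (g⁻¹ * x⁻¹ ^ 2 * g) = s := by
        rw [show g⁻¹ * x⁻¹ ^ 2 * g = g⁻¹ * x⁻¹ ^ 2 * g⁻¹⁻¹ by rw [inv_inv],
          CfsgLib.Small.orderOf_conj_eq, Nat.Coprime.orderOf_pow, orderOf_inv, hxo]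
        rw [orderOf_inv, hxo]
        exact (Nat.coprime_primes hsp Nat.prime_two).2 hs2
      rw [ho] at hj
      exact hs2 ((Nat.prime_dvd_prime_iff_eq hsp Nat.prime_two).1 (hsp.dvd_of_dvd_pow hj.dvd))
  have hF2 : F.card = 2 := by
    have hk2 : 2 ≤ F.card := Finset.one_lt_card.2 ⟨α, hαF, γ₁, hγ₁F, fun e => hγ₁ e.symm⟩
    -- pairs
    have hpairle : F.card * ((F.card - 1) * s) ≤ F.card * Nat.card C := by
      have h1 : ∀ γ ∈ F, (F.card - 1) * s ≤ U.card := by
        intro γ hγ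
        rw [Finset.card_eq_sum_card_fiberwise (s := U) (f := fun u => u • γ) (t := F.erase γ)
          (fun u hu => Finset.mem_erase.2 ⟨(hUF u hu γ hγ).2, (hUF u hu γ hγ).1⟩)]
        refine le_trans (le_of_eq ?_) (Finset.card_nsmul_le_sum _ _ s fun δ hδ => ?_)
        · rw [Finset.card_erase_of_mem hγ, smul_eq_mul]
        · obtain ⟨hδγ, hδF⟩ := Finset.mem_erase.1 hδ
          obtain ⟨B, hB, hBu⟩ := hswapU γ hγ δ hδF hδγ.symm
          rw [← hB]
          exact Finset.card_le_card fun u hu => Finset.mem_filter.2 ⟨(hBu u hu).1, (hBu u hu).2⟩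
      exact Nat.mul_le_mul_left _ ((h1 α hαF).trans hUC)
    -- two regular orbits of `C` modulo `⟨x⟩`
    obtain ⟨B, hB, hBu⟩ := hswapU α hαF γ₁ hγ₁F (fun e => hγ₁ e.symm)
    obtain ⟨u₀, hu₀⟩ : B.Nonempty := Finset.card_pos.1 (hB ▸ hsp.pos)
    obtain ⟨hu₀U, hu₀α⟩ := hBu u₀ hu₀
    have hcommF : ∀ c ∈ C, ∀ γ ∈ F, c • γ ∈ F := by
      intro c hc γ hγ
      refine (hmemF _).2 ?_
      rw [smul_smul, ← mem_centralizer_singleton_iff.1 hc, mul_smul, (hmemF γ).1 hγ]
    have hCM : ∀ c ∈ C, c • α = α → c ∈ zpowers x := by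
      intro c hc hcα
      have hcM := (hstab c).1 hcα
      obtain ⟨k, hk, e, he, rfl⟩ := hmemM c hcM
      have hkx : Commute k x := by
        obtain ⟨i, rfl⟩ := he
        have := mem_centralizer_singleton_iff.1 hc
        show k * x = x * k
        calc k * x = (k * x ^ i * x) * (x ^ i)⁻¹ := by group
          _ = (x * (k * x ^ i)) * (x ^ i)⁻¹ := by rw [this]
          _ = x * k := by group
      rw [hg.eq_one_of_commute Nat.prime_two hsp hs2 L.two hxo hk hkx.symm, one_mul]
      exact he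
    have horb : ∀ c ∈ C, c • α ≠ u₀ • α := by
      intro c hc e
      simp only [U, Finset.mem_filter, Finset.mem_univ, true_and] at hu₀U
      have hhM : c⁻¹ * u₀ ∈ M := (hstab _).1 (by rw [mul_smul, ← e, inv_smul_smul])
      have hcx := mem_centralizer_singleton_iff.1 hc
      have hconj : c⁻¹ * u₀ * x * (c⁻¹ * u₀)⁻¹ * x⁻¹ = x⁻¹ * x⁻¹ := by
        calc c⁻¹ * u₀ * x * (c⁻¹ * u₀)⁻¹ * x⁻¹ = c⁻¹ * (u₀ * x * u₀⁻¹) * c * x⁻¹ := by group
          _ = (c⁻¹ * x⁻¹ * c) * x⁻¹ := by rw [hu₀U.2]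
          _ = (x * c)⁻¹ * c * x⁻¹ := by group
          _ = (c * x)⁻¹ * c * x⁻¹ := by rw [hcx]
          _ = x⁻¹ * x⁻¹ := by group
      have h1 := hcommS _ hhM
      rw [hconj] at h1
      have h2 := hxS _ h1 (mul_mem (inv_mem (mem_zpowers x)) (inv_mem (mem_zpowers x)))
      rw [← mul_inv_rev, inv_eq_one, ← pow_two] at h2
      have := orderOf_dvd_of_pow_eq_one h2
      rw [hxo] at this
      exact hs2 ((Nat.prime_dvd_prime_iff_eq hsp Nat.prime_two).1 this)
    have horbit : 2 * Nat.card C ≤ s * F.card := by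
      set E := (zpowers x).subgroupOf C
      have hxC : zpowers x ≤ C := zpowers_le.2 (mem_centralizer_singleton_iff.2 rfl)
      have hEcard : Nat.card C = Nat.card (C ⧸ E) * s := by
        rw [Subgroup.card_eq_card_quotient_mul_card_subgroup E,
          Nat.card_congr (subgroupOfEquivOfLe hxC).toEquiv, Nat.card_zpowers, hxo]
      have hu₀xfix : ∀ e ∈ zpowers x, e • (u₀ • α) = u₀ • α :=
        hfixx _ ((hmemF _).1 (by rw [hu₀α]; exact hγ₁F))
      let q : C ⧸ E → F := Quotient.lift (fun c : C => (⟨(c : G) • α, hcommF c c.2 α hαF⟩ : F))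
        (fun a b hab => by
          have hab' : (a : G)⁻¹ * b ∈ zpowers x :=
            mem_subgroupOf.1 (QuotientGroup.leftRel_apply.1 hab)
          refine Subtype.ext ?_
          show (a : G) • α = (b : G) • α
          rw [show (b : G) = a * ((a : G)⁻¹ * b) by group, mul_smul, hfixx α hEα _ hab'])
      let q' : C ⧸ E → F := Quotient.lift (fun c : C => (⟨(c : G) • (u₀ • α),
          hcommF c c.2 _ (by rw [hu₀α]; exact hγ₁F)⟩ : F))
        (fun a b hab => by
          have hab' : (a : G)⁻¹ * b ∈ zpowers x :=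
            mem_subgroupOf.1 (QuotientGroup.leftRel_apply.1 hab)
          refine Subtype.ext ?_
          show (a : G) • (u₀ • α) = (b : G) • (u₀ • α)
          rw [show (b : G) = a * ((a : G)⁻¹ * b) by group, mul_smul, hu₀xfix _ hab'])
      have hinj : Function.Injective (Sum.elim q q') := by
        rintro (a | a) (b | b) h <;>
          induction a using QuotientGroup.induction_on with | H a => ?_ <;>
          induction b using QuotientGroup.induction_on with | H b => ?_ <;>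
          have h' := congrArg Subtype.val h <;>
          simp only [Sum.elim_inl, Sum.elim_inr, q, q'] at h'
        · congr 1
          refine QuotientGroup.eq.2 (mem_subgroupOf.2 (hCM _ (mul_mem (inv_mem a.2) b.2) ?_))
          change (a : G) • α = (b : G) • α at h'
          show ((a : G)⁻¹ * b) • α = α
          rw [mul_smul, ← h', inv_smul_smul]
        · exfalso
          change (a : G) • α = (b : G) • (u₀ • α) at h'
          refine horb ((b : G)⁻¹ * a) (mul_mem (inv_mem b.2) a.2) ?_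
          rw [mul_smul, h', inv_smul_smul]
        · exfalso
          change (a : G) • (u₀ • α) = (b : G) • α at h'
          refine horb ((a : G)⁻¹ * b) (mul_mem (inv_mem a.2) b.2) ?_
          rw [mul_smul, ← h', inv_smul_smul]
        · congr 1
          change (a : G) • (u₀ • α) = (b : G) • (u₀ • α) at h'
          refine QuotientGroup.eq.2 (mem_subgroupOf.2 ?_)
          have hc : (a : G)⁻¹ * b ∈ C := mul_mem (inv_mem a.2) b.2
          simp only [U, Finset.mem_filter, Finset.mem_univ, true_and] at hu₀U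
          set c := (a : G)⁻¹ * b with hcdef
          have hfixc : c • (u₀ • α) = u₀ • α := by rw [hcdef, mul_smul, ← h', inv_smul_smul]
          -- conjugate to `α`
          have hc' : u₀⁻¹ * c * u₀ ∈ C := by
            refine mem_centralizer_singleton_iff.2 ?_
            have hcx := mem_centralizer_singleton_iff.1 hc
            have hx' : u₀⁻¹ * x * u₀ = x⁻¹ := by
              calc u₀⁻¹ * x * u₀ = (u₀⁻¹ * (u₀ * x * u₀⁻¹) * u₀)⁻¹ := by rw [hu₀U.2]; group
                _ = x⁻¹ := by group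
            have : Commute (u₀⁻¹ * c * u₀) (u₀⁻¹ * x * u₀) := by
              show u₀⁻¹ * c * u₀ * (u₀⁻¹ * x * u₀) = u₀⁻¹ * x * u₀ * (u₀⁻¹ * c * u₀)
              calc u₀⁻¹ * c * u₀ * (u₀⁻¹ * x * u₀) = u₀⁻¹ * (c * x) * u₀ := by group
                _ = u₀⁻¹ * (x * c) * u₀ := by rw [hcx]
                _ = _ := by group
            rw [hx'] at this
            simpa using this.inv_right.eq
          have h1 := hCM _ hc' (by rw [mul_smul, mul_smul, hfixc, inv_smul_smul])
          obtain ⟨i, hi⟩ := h1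
          refine ⟨-i, ?_⟩
          have : c = u₀ * x ^ i * u₀⁻¹ := by rw [show x ^ i = u₀⁻¹ * c * u₀ from hi]; group
          show x ^ (-i) = c
          rw [this, ← conj_zpow, hu₀U.2, inv_zpow, zpow_neg]
      have := Nat.card_le_card_of_injective _ hinj
      rw [Nat.card_sum, Nat.card_eq_fintype_card (α := F), Fintype.card_coe] at this
      have h2 : Nat.card (C ⧸ E) * s + Nat.card (C ⧸ E) * s ≤ s * F.card := by
        rw [← add_mul, mul_comm s]; exact Nat.mul_le_mul_right s this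
      omega
    have hpos : 0 < F.card := by omega
    have h3 := Nat.le_of_mul_le_mul_left hpairle hpos
    have h4 : 2 * ((F.card - 1) * s) ≤ s * F.card := le_trans (by omega) horbit
    rw [← mul_assoc, mul_comm s] at h4
    have h5 := Nat.le_of_mul_le_mul_right h4 hsp.pos
    omega
  have hF : ∀ γ ∈ F, γ ≠ α → γ = γ₁ := by
    intro γ hγ hne
    by_contra hne'
    have : ({α, γ₁, γ} : Finset Ω) ⊆ F := by
      intro w hw
      simp only [Finset.mem_insert, Finset.mem_singleton] at hw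
      rcases hw with rfl | rfl | rfl <;> assumption
    have h3 : ({α, γ₁, γ} : Finset Ω).card = 3 :=
      Finset.card_eq_three.2 ⟨α, γ₁, γ, fun e => hγ₁ e.symm, fun e => hne e.symm,
        fun e => hne' e.symm, rfl⟩
    have := Finset.card_le_card this
    omega
  have htrans : ∀ β : Ω, β ≠ α → ∃ m ∈ M, m • γ₁ = β := by
    intro β hβ
    obtain ⟨m, hm, h1, h2⟩ := hmove β hβ
    exact ⟨m⁻¹, inv_mem hm, by rw [← hF _ h1 h2, inv_smul_smul]⟩
  have h2pre : IsMultiplyPretransitive G Ω 2 := by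
    rw [is_two_pretransitive_iff]
    intro a b c d hab hcd
    obtain ⟨g, hga⟩ := MulAction.exists_smul_eq G a α
    obtain ⟨g', hgc⟩ := MulAction.exists_smul_eq G c α
    obtain ⟨m, hm, hmb⟩ := htrans (g • b) (fun e => hab ((MulAction.injective g) (hga.trans e.symm)))
    obtain ⟨m', hm', hmd⟩ := htrans (g' • d) (fun e => hcd ((MulAction.injective g') (hgc.trans e.symm)))
    refine ⟨g'⁻¹ * (m' * m⁻¹) * g, ?_, ?_⟩ <;> simp only [mul_smul]
    · rw [hga, (hstab _).2 (inv_mem hm), (hstab _).2 hm', ← hgc, inv_smul_smul]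
    · rw [← hmb, inv_smul_smul, hmd, inv_smul_smul]
  have hfaith : FaithfulSMul G Ω := ⟨fun {a b} h => by
    have hk : a⁻¹ * b ∈ M.normalCore := by
      rw [normalCore_eq_ker, MonoidHom.mem_ker]
      refine Equiv.Perm.ext fun w => ?_
      show (a⁻¹ * b) • w = w
      rw [mul_smul, ← h w, inv_smul_smul]
    rcases (normalCore_normal M).eq_bot_or_eq_top with h' | h'
    · rw [h', mem_bot, inv_mul_eq_one] at hk; exact hk
    · exact absurd (top_le_iff.1 (h' ▸ normalCore_le M)) hMtop⟩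
  have hthree : ∀ g : G, ∀ a b c : Ω, a ≠ b → b ≠ c → a ≠ c → g • a = a → g • b = b → g • c = c →
      g = 1 := by
    intro g a b c hab hbc hac ha hb hc
    by_contra hg1
    obtain ⟨k, hka, hkb⟩ := is_two_pretransitive_iff.1 h2pre hab (Ne.symm hγ₁)
    have hga : (k * g * k⁻¹) • α = α := by rw [← hka, mul_smul, mul_smul, inv_smul_smul, ha]
    have hgb : (k * g * k⁻¹) • γ₁ = γ₁ := by rw [← hkb, mul_smul, mul_smul, inv_smul_smul, hb]
    have hgc : (k * g * k⁻¹) • (k • c) = k • c := by rw [mul_smul, mul_smul, inv_smul_smul, hc]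
    have hmem : k * g * k⁻¹ ∈ zpowers x := by
      rw [hpairE α γ₁ (Ne.symm hγ₁) hEα ((hmemF _).1 hγ₁F)]
      exact ⟨hga, hgb⟩
    have hne : (⟨_, hmem⟩ : zpowers x) ≠ 1 := fun e => hg1 (conj_eq_one_iff.1 (congrArg Subtype.val e))
    obtain ⟨l, hl⟩ := mem_zpowers_of_prime_card (g' := (⟨x, mem_zpowers x⟩ : zpowers x))
      (by rw [Nat.card_zpowers, hxo]) hne
    have hl' : (k * g * k⁻¹) ^ l = x := by simpa using congrArg Subtype.val hl
    have hkc : k • c ∈ F := by
      rw [hmemF, ← hl']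
      exact zpowers_le.2 (show k * g * k⁻¹ ∈ stabilizer G (k • c) from hgc) ⟨l, rfl⟩
    have hkcα : k • c ≠ α := fun e => hac ((MulAction.injective k) (hka.trans e.symm))
    exact hbc ((MulAction.injective k) (hkb.trans (hF _ hkc hkcα).symm))
  have hZ : Cfsg.IsZassenhausGroup G Ω := by
    refine ⟨hfaith, h2pre, hthree, ⟨x, ?_, α, γ₁, Ne.symm hγ₁, hEα, (hmemF _).1 hγ₁F⟩, fun N hN hNt => ?_⟩
    · intro e; rw [e, orderOf_one] at hxo; exact hsp.one_lt.ne hxo
    · rcases hN.eq_bot_or_eq_top with rfl | rfl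
      · exfalso
        obtain ⟨n, hn⟩ := hNt.exists_smul_eq α γ₁
        have : (n : G) = 1 := mem_bot.1 n.2
        exact hγ₁ (by rw [← hn, Subgroup.smul_def, this, one_smul])
      · refine ⟨α, fun e => ?_⟩
        have hx1 : (⟨x, mem_top x⟩ : (⊤ : Subgroup G)) ∈ stabilizer (⊤ : Subgroup G) α :=
          mem_stabilizer_iff.2 hEα
        have := mem_bot.1 (e.le hx1)
        have h1 : x = 1 := congrArg Subtype.val this
        rw [h1, orderOf_one] at hxo
        exact hsp.one_lt.ne hxo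
  exact CfsgLib.CharactersDeep.ZassenhausClassification.classification hZ

end CfsgLib.EPPOSeven
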